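import Groth.Agent.H44Hyper.DeRham
import Groth.Agent.Synt29.OmegaAffine
import Groth.Agent.OmegaUniv.Universal
import Groth.Agent.SmoothDim.Basic
import Groth.Agent.AModX.Res
import Mathlib.AlgebraicGeometry.Morphisms.Smooth
import Mathlib.RingTheory.Smooth.StandardSmoothCotangent

/-!
# `Ω^p = 0` for `p > dim X`, `X` smooth over a field
-/

set_option linter.style.haveILetI false

universe u

open CategoryTheory CategoryTheory.Limits AlgebraicGeometry TopologicalSpace Opposite exteriorPower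

namespace Groth.Agent.H44Hyper

variable {k : Type u} [Field k] {X : Scheme.{u}} (f : X ⟶ Spec (CommRingCat.of k))

/-- Small affine opens on which the differentials are free of rank `≤ n`. -/
theorem exists_omega_basis [Smooth f] (n : ℕ) (hn : topologicalKrullDim X ≤ n)
    {Ω' : X.Modules} {δ : OmegaSh.Der f Ω'} (hδ : OmegaSh.IsUniversal δ) (W : X.Opens) (x : X) (hx : x ∈ W) :
    ∃ (V : X.affineOpens) (d : ℕ), x ∈ V.1 ∧ V.1 ≤ W ∧ d ≤ n ∧
      Nonempty (Module.Basis (Fin d) Γ(X, V.1) Γ(Ω', V.1)) := by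
  obtain ⟨U, hU, V₀, hV₀, hxV₀, e₀, hstd⟩ := Smooth.exists_isStandardSmooth f x
  obtain ⟨g, hgW, hxg⟩ := hV₀.exists_basicOpen_le ⟨x, hx⟩ hxV₀
  have hUt : U = ⊤ := by
    refine top_unique fun y _ => ?_
    haveI : Subsingleton (Spec (CommRingCat.of k)) := inferInstanceAs (Subsingleton (PrimeSpectrum k))
    exact (Subsingleton.elim (f x) y) ▸ e₀ hxV₀
  subst hUt
  let V : X.affineOpens := ⟨X.basicOpen g, hV₀.basicOpen g⟩
  have e : V.1 ≤ f ⁻¹ᵁ ⊤ := le_top
  let φ := (f.appLE ⊤ V.1 e).hom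
  have hφ : φ.IsStandardSmooth := by
    letI := (X.presheaf.map (homOfLE (X.basicOpen_le g)).op).hom.toAlgebra
    haveI : IsLocalization.Away g Γ(X, X.basicOpen g) := hV₀.isLocalization_basicOpen g
    have h := RingHom.isStandardSmooth_stableUnderCompositionWithLocalizationAway.right
      (T := Γ(X, X.basicOpen g)) g _ hstd
    convert! h using 1
    exact congrArg CommRingCat.Hom.hom (Scheme.Hom.appLE_map f e₀ (homOfLE (X.basicOpen_le g)).op).symm
  have hF : IsField Γ(Spec (CommRingCat.of k), ⊤) :=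
    MulEquiv.isField (Field.toIsField k)
      (Scheme.ΓSpecIso (CommRingCat.of k)).commRingCatIsoToRingEquiv.toMulEquiv
  letI := hF.toField
  letI alg := φ.toAlgebra
  haveI : Algebra.IsStandardSmooth Γ(Spec (CommRingCat.of k), ⊤) Γ(X, V.1) := hφ
  haveI : Nontrivial Γ(X, V.1) := by
    haveI : Nonempty V.1 := ⟨⟨x, hxg⟩⟩
    haveI : Nonempty V.1.toScheme := ⟨⟨x, hxg⟩⟩
    infer_instance
  obtain ⟨ι, σ, _, _, ⟨P⟩⟩ := Algebra.IsStandardSmooth.out (R := Γ(Spec (CommRingCat.of k), ⊤)) (S := Γ(X, V.1))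
  haveI : Algebra.IsStandardSmoothOfRelativeDimension P.dimension Γ(Spec (CommRingCat.of k), ⊤) Γ(X, V.1) :=
    ⟨ι, σ, inferInstance, inferInstance, P, rfl⟩
  have hd : P.dimension ≤ n := by
    have h1 := SmoothDim.ringKrullDim_eq Γ(Spec (CommRingCat.of k), ⊤) Γ(X, V.1) P.dimension
    have h2 : topologicalKrullDim (PrimeSpectrum Γ(X, V.1)) ≤ topologicalKrullDim X :=
      ((hV₀.basicOpen g).fromSpec.isOpenEmbedding.isInducing).topologicalKrullDim_le
    rw [PrimeSpectrum.topologicalKrullDim_eq_ringKrullDim, h1] at h2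
    exact_mod_cast h2.trans hn
  have hr : Module.finrank Γ(X, V.1) (Ω[Γ(X, V.1)⁄Γ(Spec (CommRingCat.of k), ⊤)]) = P.dimension :=
    Module.finrank_eq_of_rank_eq (Algebra.IsStandardSmoothOfRelativeDimension.rank_kaehlerDifferential _)
  obtain ⟨E⟩ := Synt29.OmegaStalk.exists_linearEquiv_sections hδ (hV₀.basicOpen g) (isAffineOpen_top _) e
  exact ⟨V, P.dimension, hxg, hgW, hd, ⟨(Module.finBasisOfFinrankEq _ _ hr).map E.symm⟩⟩

/-- The terms of a de Rham complex vanish above the dimension. -/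
theorem isZero_term [Smooth f] [QuasiSeparated f] (n : ℕ) (hn : topologicalKrullDim X ≤ n)
    (D : DeRhamSh.OmegaCx f) (p : ℕ) (hp : n < p) : IsZero (Coh.toAb (D.term p)) := by
  have hsub : ∀ (W : X.Opens) (s : Γ(D.term p, W)), s = 0 := by
    intro W s
    refine AModX.eq_of_locally _ _ fun x hx => ?_
    obtain ⟨V, d, hxV, hVW, hd, ⟨b⟩⟩ := exists_omega_basis f n hn (OmegaUniv.isUniversal_dOmega f) W x hx
    haveI : IsEmpty (Set.powersetCard (Fin d) p) := ⟨fun t => by
      have h1 := t.2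
      have h2 := Finset.card_le_univ t.1
      rw [Fintype.card_fin] at h2
      simp only [Set.powersetCard.mem_iff] at h1
      omega⟩
    haveI : Subsingleton (⋀[Γ(X, V.1)]^p Γ(Omega.sheaf f, V.1)) := (b.exteriorPower p).repr.toEquiv.subsingleton
    haveI : Subsingleton Γ(D.term p, V.1) := (D.loc p V).toEquiv.subsingleton
    exact ⟨V.1, hVW, hxV, Subsingleton.elim _ _⟩
  rw [IsZero.iff_id_eq_zero]
  refine CategoryTheory.Sheaf.hom_ext ?_
  refine NatTrans.ext (funext fun W => ?_)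
  refine AddCommGrpCat.hom_ext (AddMonoidHom.ext fun s => ?_)
  exact hsub W.unop s

end Groth.Agent.H44Hyper
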