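import Groth.Agent.DRExt.Basic
import Groth.Agent.S15293
import Groth.Agent.S15294
import Groth.Agent.S15536
import Groth.Agent.Synt29.DRGen

/-!
# The algebraic Poincaré lemma for polynomial algebras
-/

set_option linter.style.haveILetI false

universe u

open exteriorPower

namespace Groth.Agent.H44Hyper

variable (R A : Type u) [CommRing R] [CommRing A] [Algebra R A]

/-- Existence of the de Rham differential. -/
theorem exists_isDiff : ∃ d : ∀ p : ℕ, ↥(⋀[A]^p (Ω[A⁄R])) →ₗ[R] ↥(⋀[A]^(p + 1) (Ω[A⁄R])),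
    DeRham.IsDiff (KaehlerDifferential.D R A) d := by
  let d : ∀ p : ℕ, ↥(⋀[A]^p (Ω[A⁄R])) →ₗ[R] ↥(⋀[A]^(p + 1) (Ω[A⁄R])) := fun p =>
    { toFun := fun x => ⟨DRExt.d R A x.1, DRExt.d_mem x.2⟩
      map_add' := fun x y => Subtype.ext (map_add (DRExt.d R A) x.1 y.1)
      map_smul' := fun r x => Subtype.ext ((DRExt.d R A).map_smul r x.1) }
  refine ⟨d, fun p b₀ b => ?_, fun p => LinearMap.ext fun x => Subtype.ext (DRExt.d_spec x.1).1⟩
  have h0 : ∀ (q : ℕ) (c : Fin q → A),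
      DRExt.d R A (ExteriorAlgebra.ιMulti A q fun i => KaehlerDifferential.D R A (c i)) = 0 := by
    intro q
    induction q with
    | zero =>
      intro c
      rw [ExteriorAlgebra.ιMulti_zero_apply, ← map_one (algebraMap A (ExteriorAlgebra A Ω[A⁄R])),
        DRExt.d_algebraMap, Derivation.map_one_eq_zero, map_zero]
    | succ q ih =>
      intro c
      rw [ExteriorAlgebra.ιMulti_succ_apply, DRExt.d_mul, DRExt.d_ι_D, zero_mul, zero_add]
      exact (congrArg (DRExt.sgn (ExteriorAlgebra.ι A (KaehlerDifferential.D R A (c 0))) * ·)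
        (ih (fun i => c i.succ))).trans (mul_zero _)
  refine Subtype.ext ?_
  show DRExt.d R A (DeRham.gen (KaehlerDifferential.D R A) p b₀ b).1 = _
  rw [DeRham.gen, Submodule.coe_smul, DRExt.d_smul, ιMulti_apply_coe, h0, smul_zero, zero_add,
    ιMulti_apply_coe, ExteriorAlgebra.ιMulti_succ_apply (Fin.cons _ _)]
  simp [Matrix.vecTail, Function.comp_def]

variable {R A} {B : Type u} [CommRing B] [Algebra R B]
  {d : ∀ p : ℕ, ↥(⋀[A]^p (Ω[A⁄R])) →ₗ[R] ↥(⋀[A]^(p + 1) (Ω[A⁄R]))}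
  {d' : ∀ p : ℕ, ↥(⋀[B]^p (Ω[B⁄R])) →ₗ[R] ↥(⋀[B]^(p + 1) (Ω[B⁄R]))}

/-- The Poincaré lemma as a property of an algebra. -/
def Poincare (d : ∀ p : ℕ, ↥(⋀[A]^p (Ω[A⁄R])) →ₗ[R] ↥(⋀[A]^(p + 1) (Ω[A⁄R]))) : Prop :=
  (∀ i, ∀ y ∈ DeRham.cocycles d (i + 1), y ∈ DeRham.coboundaries d (i + 1)) ∧
    ∀ y ∈ DeRham.cocycles d 0, ∃ r : R, y = DeRham.gen (KaehlerDifferential.D R A) 0 (algebraMap R A r) ![]

theorem gen_zero_congr (a : A) (b b' : Fin 0 → A) :
    DeRham.gen (KaehlerDifferential.D R A) 0 a b = DeRham.gen (KaehlerDifferential.D R A) 0 a b' := by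
  rw [Subsingleton.elim b b']

/-- Transport of the Poincaré lemma along an isomorphism of algebras. -/
theorem poincare_of_algEquiv (hd : DeRham.IsDiff (KaehlerDifferential.D R A) d)
    (hd' : DeRham.IsDiff (KaehlerDifferential.D R B) d') (e : A ≃ₐ[R] B) (h : Poincare d) : Poincare d' := by
  obtain ⟨ψ, hψ, hψd⟩ : ∃ ψ : ∀ p, ↥(⋀[A]^p (Ω[A⁄R])) →+ ↥(⋀[B]^p (Ω[B⁄R])),
      (∀ (p : ℕ) (b₀ : A) (b : Fin p → A), ψ p (DeRham.gen (KaehlerDifferential.D R A) p b₀ b) =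
        DeRham.gen (KaehlerDifferential.D R B) p (e b₀) fun j => e (b j)) ∧
      ∀ p x, ψ (p + 1) (d p x) = d' p (ψ p x) := by
    letI : Algebra A B := e.toAlgHom.toRingHom.toAlgebra
    haveI : IsScalarTower R A B := .of_algebraMap_eq fun r => (e.commutes r).symm
    obtain ⟨ψ, hψ⟩ := S15293.result R R A B
    exact ⟨ψ, hψ, S15294.result R R A B d hd d' hd' ψ hψ⟩
  obtain ⟨φ, hφ, hφd⟩ : ∃ φ : ∀ p, ↥(⋀[B]^p (Ω[B⁄R])) →+ ↥(⋀[A]^p (Ω[A⁄R])),
      (∀ (p : ℕ) (b₀ : B) (b : Fin p → B), φ p (DeRham.gen (KaehlerDifferential.D R B) p b₀ b) =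
        DeRham.gen (KaehlerDifferential.D R A) p (e.symm b₀) fun j => e.symm (b j)) ∧
      ∀ p x, φ (p + 1) (d' p x) = d p (φ p x) := by
    letI : Algebra B A := e.symm.toAlgHom.toRingHom.toAlgebra
    haveI : IsScalarTower R B A := .of_algebraMap_eq fun r => (e.symm.commutes r).symm
    obtain ⟨φ, hφ⟩ := S15293.result R R B A
    exact ⟨φ, hφ, S15294.result R R B A d' hd' d hd φ hφ⟩
  have hψφ : ∀ p x, ψ p (φ p x) = x := fun p x =>
    Synt29.DRGen.gen_induction (KaehlerDifferential.D R B) (KaehlerDifferential.span_range_derivation R B)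
      (P := fun x => ψ p (φ p x) = x) (by simp only [map_zero]) (fun x y hx hy => by simp only [map_add, hx, hy])
      (fun b₀ b => by simp [hφ, hψ]) x
  have hcoc : ∀ p y, y ∈ DeRham.cocycles d' p → φ p y ∈ DeRham.cocycles d p := fun p y hy => by
    simp only [DeRham.cocycles, LinearMap.mem_ker] at hy ⊢
    rw [← hφd, hy, map_zero]
  refine ⟨fun i y hy => ?_, fun y hy => ?_⟩
  · obtain ⟨z, hz⟩ := h.1 i _ (hcoc _ y hy)
    exact ⟨ψ i z, by rw [← hψd, hz, hψφ]⟩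
  · obtain ⟨r, hr⟩ := h.2 _ (hcoc _ y hy)
    refine ⟨r, ?_⟩
    rw [← hψφ 0 y, hr, hψ, e.commutes]
    exact gen_zero_congr _ _ _

/-- Adding a variable. -/
theorem poincare_polynomial [Algebra ℚ R] (hd : DeRham.IsDiff (KaehlerDifferential.D R A) d) (h : Poincare d)
    {d' : ∀ p : ℕ, ↥(⋀[Polynomial A]^p (Ω[Polynomial A⁄R])) →ₗ[R] ↥(⋀[Polynomial A]^(p + 1) (Ω[Polynomial A⁄R]))}
    (hd' : DeRham.IsDiff (KaehlerDifferential.D R (Polynomial A)) d') : Poincare d' := by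
  obtain ⟨ψ, hψ⟩ := S15293.result R R A (Polynomial A)
  have hcomm := S15294.result R R A (Polynomial A) d hd d' hd' ψ hψ
  refine ⟨fun i y hy => ?_, fun y hy => ?_⟩
  · obtain ⟨x, hx, hxy⟩ := (S15536.result R A d hd d' hd' ψ hψ hcomm (i + 1)).1 y hy
    obtain ⟨z, hz⟩ := h.1 i x hx
    have h' : ψ (i + 1) x ∈ DeRham.coboundaries d' (i + 1) := ⟨ψ i z, by rw [← hcomm, hz]⟩
    simpa using add_mem hxy h'
  · obtain ⟨x, hx, hxy⟩ := (S15536.result R A d hd d' hd' ψ hψ hcomm 0).1 y hy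
    obtain ⟨r, rfl⟩ := h.2 x hx
    refine ⟨r, ?_⟩
    rw [hψ] at hxy
    rw [sub_eq_zero.1 (show y - _ = 0 from hxy), ← IsScalarTower.algebraMap_apply]
    exact gen_zero_congr _ _ _

/-- The Poincaré lemma for the base. -/
theorem poincare_self {d : ∀ p : ℕ, ↥(⋀[R]^p (Ω[R⁄R])) →ₗ[R] ↥(⋀[R]^(p + 1) (Ω[R⁄R]))} : Poincare d := by
  refine ⟨fun i y _ => ?_, fun y _ => ?_⟩
  · have : y = 0 := by
      refine Synt29.DRGen.gen_induction (KaehlerDifferential.D R R) (KaehlerDifferential.span_range_derivation R R)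
        (P := fun y => y = 0) rfl (fun x z hx hz => by rw [hx, hz, add_zero]) (fun b₀ b => ?_) y
      rw [DeRham.gen, AlternatingMap.map_coord_zero _ (i := 0) ?_, smul_zero]
      exact (KaehlerDifferential.D R R).map_algebraMap (b 0)
    exact this ▸ zero_mem _
  · refine Synt29.DRGen.gen_induction (KaehlerDifferential.D R R) (KaehlerDifferential.span_range_derivation R R)
      (P := fun y => ∃ r : R, y = DeRham.gen (KaehlerDifferential.D R R) 0 (algebraMap R R r) ![]) ⟨0, by simp [DeRham.gen]⟩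
      (fun x z hx hz => ?_) (fun b₀ b => ⟨b₀, gen_zero_congr _ _ _⟩) y
    obtain ⟨r, rfl⟩ := hx
    obtain ⟨s, rfl⟩ := hz
    exact ⟨r + s, by simp [DeRham.gen, add_smul]⟩

/-- The Poincaré lemma for polynomial algebras over a `ℚ`-algebra. -/
theorem poincare_mvPolynomial (k : Type u) [CommRing k] [Algebra ℚ k] (n : ℕ) :
    ∀ (d : ∀ p : ℕ, ↥(⋀[MvPolynomial (Fin n) k]^p (Ω[MvPolynomial (Fin n) k⁄k])) →ₗ[k]
      ↥(⋀[MvPolynomial (Fin n) k]^(p + 1) (Ω[MvPolynomial (Fin n) k⁄k]))),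
      DeRham.IsDiff (KaehlerDifferential.D k (MvPolynomial (Fin n) k)) d → Poincare d := by
  induction n with
  | zero =>
    intro d hd
    obtain ⟨d₀, hd₀⟩ := exists_isDiff k k
    exact poincare_of_algEquiv hd₀ hd (MvPolynomial.isEmptyAlgEquiv k (Fin 0)).symm poincare_self
  | succ n ih =>
    intro d hd
    obtain ⟨d₀, hd₀⟩ := exists_isDiff k (MvPolynomial (Fin n) k)
    obtain ⟨d₁, hd₁⟩ := exists_isDiff k (Polynomial (MvPolynomial (Fin n) k))
    exact poincare_of_algEquiv hd₁ hd (MvPolynomial.finSuccEquiv k n).symm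
      (poincare_polynomial hd₀ (ih d₀ hd₀) hd₁)

end Groth.Agent.H44Hyper
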