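import Groth.Agent.H44Hyper.Basic
import Mathlib.Algebra.Homology.DerivedCategory.KInjective
import Mathlib.Algebra.Homology.DerivedCategory.Ext.ExactSequences
import Mathlib.Algebra.Homology.HomotopyCategory.HomComplexSingle
import Mathlib.Algebra.Homology.HomotopyCategory.HomComplexCohomology
import Mathlib.Algebra.Homology.Factorizations.CM5a
import Mathlib.CategoryTheory.Abelian.Injective.Ext

/-!
# Complexes of `Hom(T, -)`-acyclic objects compute `Hom_D(T, K[q])`

For a bounded below complex `K` with `Ext^{>0}(T, K^m) = 0`: `cls K q` from the cocycles `T ⟶ K^q`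
to `E1Deg.HT T K q` is surjective with kernel the coboundaries.
-/

set_option linter.style.haveILetI false

universe w w' v u

open CategoryTheory CategoryTheory.Limits CategoryTheory.Abelian CochainComplex CochainComplex.HomComplex

namespace Groth.Agent.H44Hyper

variable {A : Type u} [Category.{v} A] [Abelian A] [HasDerivedCategory.{w} A] (T : A)

/-- Morphisms `T ⟶ K^q` killed by the differential. -/
def cyc (K : CochainComplex A ℤ) (q : ℤ) : AddSubgroup (T ⟶ K.X q) :=
  (Preadditive.rightComp T (K.d q (q + 1))).ker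

omit [HasDerivedCategory.{w} A] in
theorem mem_cyc {K : CochainComplex A ℤ} {q : ℤ} {z : T ⟶ K.X q} :
    z ∈ cyc T K q ↔ z ≫ K.d q (q + 1) = 0 := Iff.rfl

/-- The morphism in the derived category attached to a cocycle. -/
noncomputable def cocMap (M L : CochainComplex A ℤ) (q : ℤ) :
    Cocycle M L q →+ (DerivedCategory.Q.obj M ⟶ (DerivedCategory.Q.obj L)⟦q⟧) :=
  AddMonoidHom.mk' (fun z => DerivedCategory.Q.map (Cocycle.equivHomShift.symm z) ≫
      (DerivedCategory.Q.commShiftIso q).hom.app L) (fun a b => by simp)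

theorem cocMap_postcomp {M K L : CochainComplex A ℤ} (φ : K ⟶ L) (q : ℤ) (z : Cocycle M K q) :
    cocMap M L q (z.postcomp φ) =
      cocMap M K q z ≫ (CategoryTheory.shiftFunctor (DerivedCategory A) q).map (DerivedCategory.Q.map φ) := by
  simp only [cocMap, AddMonoidHom.mk'_apply, Cocycle.equivHomShift_symm_postcomp, Functor.map_comp,
    Category.assoc]
  congr 1
  exact (DerivedCategory.Q.commShiftIso q).hom.naturality φ

theorem cocMap_eq (M L : CochainComplex A ℤ) (q : ℤ) (z : Cocycle M L q) :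
    cocMap M L q z = (DerivedCategory.quotientCompQhIso _).inv.app M ≫
      DerivedCategory.Qh.map (CohomologyClass.toHom (.mk z)) ≫
        (DerivedCategory.quotientCompQhIso _).hom.app (L⟦q⟧) ≫
          (DerivedCategory.Q.commShiftIso q).hom.app L := by
  simp only [cocMap, AddMonoidHom.mk'_apply, CohomologyClass.toHom_mk]
  have h := (DerivedCategory.quotientCompQhIso A).hom.naturality (Cocycle.equivHomShift.symm z)
  dsimp at h
  rw [reassoc_of% h, Iso.inv_hom_id_app_assoc]

/-- The class in the derived category of a cocycle out of `T`. -/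
noncomputable def cls (K : CochainComplex A ℤ) (q : ℤ) : cyc T K q →+ E1Deg.HT T K q :=
  AddMonoidHom.mk' (fun z => cocMap _ K q (Cocycle.fromSingleMk z.1 (zero_add q) (q + 1) rfl z.2))
    (fun a b => (congrArg (cocMap _ K q)
      (Cocycle.fromSingleMk_add a.1 b.1 (zero_add q) (q + 1) rfl a.2 b.2)).trans (map_add _ _ _))

/-- Post-composition with a morphism of complexes. -/
def cycMap {K L : CochainComplex A ℤ} (φ : K ⟶ L) (q : ℤ) (z : cyc T K q) : cyc T L q :=
  ⟨z.1 ≫ φ.f q, by
    rw [mem_cyc, Category.assoc, φ.comm, ← Category.assoc, mem_cyc T |>.1 z.2, zero_comp]⟩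

theorem cls_cycMap {K L : CochainComplex A ℤ} (φ : K ⟶ L) (q : ℤ) (z : cyc T K q) :
    cls T L q (cycMap T φ q z) = E1Deg.HTmap T φ q (cls T K q z) := by
  exact (congrArg (cocMap _ L q) (Cocycle.fromSingleMk_postcomp z.1 (zero_add q) (q + 1) rfl z.2 φ)).trans
    (cocMap_postcomp φ q _)

section Injective

variable (I : CochainComplex A ℤ) [I.IsKInjective] (q : ℤ)

theorem Qmap_shift_bijective (M : CochainComplex A ℤ) :
    Function.Bijective (fun g : (HomotopyCategory.quotient _ _).obj M ⟶ (HomotopyCategory.quotient _ _).obj (I⟦q⟧) =>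
      (DerivedCategory.quotientCompQhIso _).inv.app M ≫ DerivedCategory.Qh.map g ≫
        (DerivedCategory.quotientCompQhIso _).hom.app (I⟦q⟧) ≫ (DerivedCategory.Q.commShiftIso q).hom.app I) := by
  have h := CochainComplex.IsKInjective.Qh_map_bijective ((HomotopyCategory.quotient _ _).obj M) (I⟦q⟧)
  refine ⟨fun g g' hg => h.1 ?_, fun φ => ?_⟩
  · simpa only [cancel_epi, cancel_mono] using hg
  · obtain ⟨g, hg⟩ := h.2 ((DerivedCategory.quotientCompQhIso _).hom.app M ≫ φ ≫
      (DerivedCategory.Q.commShiftIso q).inv.app I ≫ (DerivedCategory.quotientCompQhIso _).inv.app (I⟦q⟧))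
    exact ⟨g, by simp only [hg]; simp⟩

theorem cls_eq_toHom (z : cyc T I q) :
    cls T I q z = (DerivedCategory.quotientCompQhIso _).inv.app _ ≫
      DerivedCategory.Qh.map (CohomologyClass.toHom (CohomologyClass.mk
        (Cocycle.fromSingleMk z.1 (zero_add q) (q + 1) rfl z.2))) ≫
        (DerivedCategory.quotientCompQhIso _).hom.app (I⟦q⟧) ≫ (DerivedCategory.Q.commShiftIso q).hom.app I :=
  cocMap_eq _ _ _ _

theorem cls_surjective_of_isKInjective : Function.Surjective (cls T I q) := by
  intro φ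
  obtain ⟨g, hg⟩ := (Qmap_shift_bijective I q _).2 φ
  obtain ⟨c, rfl⟩ := (CohomologyClass.toHom_bijective _ I q).2 g
  obtain ⟨z, rfl⟩ := c.mk_surjective
  obtain ⟨f, hf, rfl⟩ := Cocycle.fromSingleMk_surjective z q (zero_add q) (q + 1) rfl
  exact ⟨⟨f, hf⟩, (cls_eq_toHom T I q ⟨f, hf⟩).trans hg⟩

theorem cls_eq_zero_iff_of_isKInjective (p : ℤ) (hp : p + 1 = q) (z : cyc T I q) :
    cls T I q z = 0 ↔ ∃ w : T ⟶ I.X p, w ≫ I.d p q = z.1 := by
  rw [← Cocycle.fromSingleMk_mem_coboundaries_iff z.1 (zero_add q) (q + 1) rfl z.2 p hp,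
    ← CohomologyClass.toHom_mk_eq_zero_iff, cls_eq_toHom]
  refine ⟨fun h => (Qmap_shift_bijective I q _).1 (h.trans ?_), fun h => ?_⟩
  · simp only [Functor.map_zero, Limits.zero_comp, Limits.comp_zero]
    rfl
  · rw [h, Functor.map_zero, Limits.zero_comp, Limits.comp_zero]
    rfl

end Injective

section Exact

omit [HasDerivedCategory.{w} A]
variable [HasExt.{w'} A] (C : CochainComplex A ℤ) (hC : C.Acyclic)
  (hT : ∀ (m : ℤ) (i : ℕ), Subsingleton (Ext.{w'} T (C.X m) (i + 1)))

include hC in
theorem cyclesSES_shortExact (m n : ℤ) (h : m + 1 = n) :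
    (ShortComplex.mk (C.iCycles m) (C.toCycles m n)
      (by rw [← cancel_mono (C.iCycles n), Category.assoc, C.toCycles_i, C.iCycles_d, zero_comp])).ShortExact :=
  { exact := by
      have hd : (ShortComplex.mk (C.iCycles m) (C.d m n) (C.iCycles_d m n)).Exact :=
        ShortComplex.exact_of_f_is_kernel _ (C.cyclesIsKernel m n (by simp [← h]))
      rw [ShortComplex.exact_iff_exact_up_to_refinements]
      intro W x hx
      exact hd.exact_up_to_refinements x (by
        show x ≫ C.d m n = 0
        exact ((congrArg (x ≫ ·) (C.toCycles_i m n)).symm.trans ((Category.assoc _ _ _).symm.trans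
          ((congrArg (· ≫ C.iCycles n) hx).trans Limits.zero_comp))))
    mono_f := inferInstanceAs (Mono (C.iCycles m))
    epi_g := by
      have hp : (ComplexShape.up ℤ).prev n = m := by simp [← h]
      have e := hC n
      rw [HomologicalComplex.exactAt_iff_isZero_homology] at e
      have hc := C.homologyIsCokernel m n hp
      exact Preadditive.epi_of_cancel_zero _ fun {W} g hg => by
        obtain ⟨l, hl⟩ := CokernelCofork.IsColimit.desc' hc g hg
        rw [← hl, e.eq_of_src l 0, comp_zero] }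

include hC hT in
theorem subsingleton_ext_cycles (a : ℤ) [C.IsStrictlyGE a] (k : ℕ) : ∀ (m : ℤ), m < a + k → ∀ i : ℕ,
    Subsingleton (Ext.{w'} T (C.cycles m) (i + 1)) := by
  induction k with
  | zero =>
    intro m hm i
    have hz : IsZero (C.cycles m) := by
      rw [IsZero.iff_id_eq_zero, ← cancel_mono (C.iCycles m)]
      exact (C.isZero_of_isStrictlyGE a m (by simpa using hm)).eq_of_tgt _ _
    refine subsingleton_of_forall_eq 0 fun x => ?_
    rw [← Ext.comp_mk₀_id x, hz.eq_of_src (𝟙 _) 0, Ext.mk₀_zero, Ext.comp_zero]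
  | succ k ih =>
    intro m hm i
    refine subsingleton_of_forall_eq 0 fun x => ?_
    haveI := ih (m - 1) (by push_cast at hm; omega) (i + 1)
    obtain ⟨y, hy⟩ := Ext.covariant_sequence_exact₃ T (cyclesSES_shortExact C hC (m - 1) m (by omega)) x
      (show i + 1 + 1 = i + 1 + 1 from rfl) (Subsingleton.elim _ _)
    haveI := hT (m - 1) i
    rw [← hy, Subsingleton.elim y 0, Ext.zero_comp]

include hC hT in
theorem exists_lift_of_d_eq_zero (a : ℤ) [C.IsStrictlyGE a] (p q r : ℤ) (hpq : p + 1 = q) (hqr : q + 1 = r) (x : T ⟶ C.X q)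
    (hx : x ≫ C.d q r = 0) : ∃ w : T ⟶ C.X p, w ≫ C.d p q = x := by
  let x' := C.liftCycles x r (by simp [← hqr]) hx
  haveI := subsingleton_ext_cycles T C hC hT a ((p + 1 - a).toNat) p (by omega) 0
  obtain ⟨y, hy⟩ := Ext.covariant_sequence_exact₃ T (cyclesSES_shortExact C hC p q hpq) (Ext.mk₀.{w'} x')
    (show 0 + 1 = 1 from rfl) (Subsingleton.elim _ _)
  obtain ⟨w, rfl⟩ := (Ext.mk₀_bijective T (C.X p)).2 y
  rw [Ext.mk₀_comp_mk₀] at hy
  refine ⟨w, ?_⟩
  rw [← C.toCycles_i p q, ← Category.assoc, (Ext.mk₀_bijective T (C.cycles q)).1 hy, C.liftCycles_i]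

end Exact

variable [EnoughInjectives A] [HasExt.{w'} A] {K : CochainComplex A ℤ}
  (hT : ∀ (m : ℤ) (i : ℕ), Subsingleton (Ext.{w'} T (K.X m) (i + 1)))

include hT in
/-- A bounded below complex of acyclic objects computes `Hom_D(T, K[q])`. -/
theorem cls_surjective_and_kernel (a : ℤ) [K.IsStrictlyGE a] (p q : ℤ) (hpq : p + 1 = q) :
    Function.Surjective (cls T K q) ∧
      ∀ z, cls T K q z = 0 ↔ ∃ w : T ⟶ K.X p, w ≫ K.d p q = z.1 := by
  obtain ⟨I, φ, hφ, hinj, hI⟩ := CochainComplex.Plus.modelCategoryQuillen.exists_quasiIso_injective K a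
  haveI := hφ; haveI := hinj; haveI := hI
  haveI : I.IsKInjective := CochainComplex.isKInjective_of_injective I a
  haveI : IsIso (DerivedCategory.Q.map φ) := inferInstance
  have hM : (mappingCone φ).Acyclic := fun j => by
    rw [HomologicalComplex.exactAt_iff_isZero_homology]
    have hz : IsZero (DerivedCategory.Q.obj (mappingCone φ)) :=
      (Pretriangulated.Triangle.isZero₃_iff_isIso₁ _ (DerivedCategory.mappingCone_triangle_distinguished φ)).2
        (inferInstanceAs (IsIso (DerivedCategory.Q.map φ)))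
    exact ((DerivedCategory.homologyFunctor A j).map_isZero hz).of_iso
      ((DerivedCategory.homologyFunctorFactors A j).symm.app (mappingCone φ))
  haveI : (mappingCone φ).IsStrictlyGE (a - 1) := by
    rw [CochainComplex.isStrictlyGE_iff]
    intro j hj
    rw [IsZero.iff_id_eq_zero, ← mappingCone.id_X φ j (j + 1) rfl,
      (K.isZero_of_isStrictlyGE a (j + 1) (by omega)).eq_of_tgt ((mappingCone.fst φ).1.v j (j + 1) rfl) 0,
      (I.isZero_of_isStrictlyGE a j (by omega)).eq_of_tgt ((mappingCone.snd φ).v j j (add_zero j)) 0]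
    simp
  have hMT : ∀ (m : ℤ) (i : ℕ), Subsingleton (Ext.{w'} T ((mappingCone φ).X m) (i + 1)) := fun m i => by
    refine subsingleton_of_forall_eq 0 fun x => ?_
    haveI := hT (m + 1) i
    haveI := hinj m
    rw [← Ext.comp_mk₀_id x, ← mappingCone.id_X φ m (m + 1) rfl, Ext.mk₀_add, Ext.comp_add,
      ← Ext.mk₀_comp_mk₀, ← Ext.mk₀_comp_mk₀,
      ← Ext.comp_assoc_of_second_deg_zero, ← Ext.comp_assoc_of_second_deg_zero]
    rw [Subsingleton.elim (x.comp (Ext.mk₀ ((mappingCone.fst φ).1.v m (m + 1) rfl)) _) 0,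
      Ext.eq_zero_of_injective (x.comp (Ext.mk₀ ((mappingCone.snd φ).v m m (add_zero m))) _),
      Ext.zero_comp, Ext.zero_comp, add_zero]
  have hHT : Function.Injective (E1Deg.HTmap T φ q) := fun x y h => by
    simpa only [E1Deg.HTmap_apply, cancel_mono] using h
  refine ⟨fun x => ?_, fun z => ?_⟩
  · obtain ⟨u, hu⟩ := cls_surjective_of_isKInjective T I q (E1Deg.HTmap T φ q x)
    obtain ⟨w, hw⟩ := exists_lift_of_d_eq_zero T (mappingCone φ) hM hMT (a - 1) p q (q + 1) hpq rfl
      (u.1 ≫ (mappingCone.inr φ).f q) (by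
        rw [Category.assoc, mappingCone.inr_f_d, ← Category.assoc, (mem_cyc T).1 u.2, zero_comp])
    have h1 : (w ≫ (mappingCone.fst φ).1.v p q hpq) ≫ K.d q (q + 1) = 0 := by
      have h := congrArg (fun t => t ≫ (mappingCone.fst φ).1.v q (q + 1) rfl) hw
      simp only [Category.assoc, mappingCone.d_fst_v φ p q (q + 1) hpq rfl, mappingCone.inr_f_fst_v,
        comp_zero, Preadditive.neg_comp, Preadditive.comp_neg, neg_eq_zero] at h
      rw [Category.assoc]; exact h
    have h2 : (w ≫ (mappingCone.fst φ).1.v p q hpq) ≫ φ.f q +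
        (w ≫ (mappingCone.snd φ).v p p (add_zero p)) ≫ I.d p q = u.1 := by
      have h := congrArg (fun t => t ≫ (mappingCone.snd φ).v q q (add_zero q)) hw
      simp only [Category.assoc, mappingCone.d_snd_v φ p q hpq, mappingCone.inr_f_snd_v,
        Category.comp_id, Preadditive.comp_add] at h
      simpa only [Category.assoc] using h
    refine ⟨⟨_, h1⟩, hHT ?_⟩
    rw [← cls_cycMap, ← hu, ← sub_eq_zero, ← map_sub]
    refine (cls_eq_zero_iff_of_isKInjective T I q p hpq _).2 ⟨-(w ≫ (mappingCone.snd φ).v p p (add_zero p)), ?_⟩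
    rw [AddSubgroup.coe_sub, ← h2, Preadditive.neg_comp]
    simp only [cycMap]
    abel
  · constructor
    · intro hz
      obtain ⟨b, hb⟩ := (cls_eq_zero_iff_of_isKInjective T I q p hpq (cycMap T φ q z)).1
        (by rw [cls_cycMap, hz, map_zero])
      obtain ⟨o, ho⟩ : ∃ o : ℤ, o + 1 = p := ⟨p - 1, by omega⟩
      obtain ⟨w, hw⟩ := exists_lift_of_d_eq_zero T (mappingCone φ) hM hMT (a - 1) o p q ho hpq
        (z.1 ≫ (mappingCone.inl φ).v q p (by omega) - b ≫ (mappingCone.inr φ).f p) (by
          rw [Preadditive.sub_comp, Category.assoc, Category.assoc,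
            mappingCone.inl_v_d φ q p (q + 1) (by omega) (by omega), mappingCone.inr_f_d,
            Preadditive.comp_sub, ← Category.assoc z.1 (φ.f q), ← Category.assoc z.1 (K.d q (q + 1)),
            (mem_cyc T).1 z.2, zero_comp, sub_zero, ← Category.assoc b, hb]
          exact sub_self _)
      refine ⟨-(w ≫ (mappingCone.fst φ).1.v o p ho), ?_⟩
      have h := congrArg (fun t => t ≫ (mappingCone.fst φ).1.v p q hpq) hw
      simp only [Category.assoc, Preadditive.sub_comp, mappingCone.d_fst_v φ o p q ho hpq,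
        mappingCone.inr_f_fst_v, mappingCone.inl_v_fst_v, comp_zero, sub_zero, Category.comp_id,
        Preadditive.neg_comp, Preadditive.comp_neg] at h
      rw [Preadditive.neg_comp, Category.assoc]
      exact h
    · rintro ⟨w, hw⟩
      refine hHT ?_
      rw [← cls_cycMap, map_zero]
      refine (cls_eq_zero_iff_of_isKInjective T I q p hpq _).2 ⟨w ≫ φ.f p, ?_⟩
      simp only [cycMap, ← hw, Category.assoc, φ.comm]

end Groth.Agent.H44Hyper
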