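import Groth.Agent.H44Hyper.ExtLoc
import Groth.Agent.AModX.Res
import Groth.Agent.QCoh.Qcqs

/-!
# Quasi-coherence of exterior powers given affine-locally
-/

set_option linter.style.haveILetI false

universe u

open CategoryTheory AlgebraicGeometry TopologicalSpace Opposite exteriorPower

namespace Groth.Agent.H44Hyper

variable {X : Scheme.{u}} {E L : X.Modules} (p : ℕ)

/-- An affine-locally given exterior power of a quasi-coherent module is quasi-coherent. -/
theorem isQCoh_extPow (hE : Coh.IsQCoh E)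
    (φ : ∀ U : X.affineOpens, Γ(L, U.1) ≃ₗ[Γ(X, U.1)] ↥(⋀[Γ(X, U.1)]^p Γ(E, U.1)))
    (hφ : ∀ (U V : X.affineOpens) (h : V.1 ≤ U.1) (e : Fin p → Γ(E, U.1)),
      AModX.res L h ((φ U).symm (ιMulti _ p e)) = (φ V).symm (ιMulti _ p fun j => AModX.res E h (e j))) :
    Coh.IsQCoh L := by
  have main : ∀ (U : X.Opens) (hU : IsAffineOpen U) (g : Γ(X, U)),
      (∀ y : Γ(L, X.basicOpen g), ∃ (n : ℕ) (t : Γ(L, U)),
        AModX.res L (X.basicOpen_le g) t = AModX.resR (X.basicOpen_le g) g ^ n • y) ∧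
      (∀ t : Γ(L, U), AModX.res L (X.basicOpen_le g) t = 0 → ∃ n : ℕ, g ^ n • t = 0) := by
    intro U hU g
    let V : X.affineOpens := ⟨X.basicOpen g, hU.basicOpen g⟩
    letI alg : Algebra Γ(X, U) Γ(X, X.basicOpen g) := (AModX.resR (X.basicOpen_le g)).toAlgebra
    haveI : IsLocalization (Submonoid.powers g) Γ(X, X.basicOpen g) := hU.isLocalization_basicOpen g
    letI m₁ : Module Γ(X, U) Γ(E, X.basicOpen g) := Module.compHom _ (AModX.resR (X.basicOpen_le g))
    haveI : IsScalarTower Γ(X, U) Γ(X, X.basicOpen g) Γ(E, X.basicOpen g) :=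
      ⟨fun a b x => mul_smul (AModX.resR (X.basicOpen_le g) a) b x⟩
    let rE : Γ(E, U) →ₗ[Γ(X, U)] Γ(E, X.basicOpen g) :=
      { toFun := AModX.res E (X.basicOpen_le g)
        map_add' := map_add _
        map_smul' := AModX.res_smul _ }
    haveI : IsLocalizedModule (Submonoid.powers g) rE := by
      refine IsLocalizedModule.Away.mk_of_addCommGroup ?_ (fun s => ?_) (fun x hx => ?_)
      · obtain ⟨u, hu⟩ := IsLocalization.map_units Γ(X, X.basicOpen g)
          (⟨g, Submonoid.mem_powers g⟩ : Submonoid.powers g)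
        refine (Module.End.isUnit_iff _).2 (Function.bijective_iff_has_inverse.2
          ⟨fun z => (↑u⁻¹ : Γ(X, X.basicOpen g)) • z, fun z => ?_, fun z => ?_⟩)
        · simp only [Module.algebraMap_end_apply]
          rw [← IsScalarTower.algebraMap_smul Γ(X, X.basicOpen g) g z, ← hu, smul_smul, Units.inv_mul, one_smul]
        · simp only [Module.algebraMap_end_apply]
          rw [← IsScalarTower.algebraMap_smul Γ(X, X.basicOpen g) g (((↑u⁻¹ : Γ(X, X.basicOpen g))) • z), ← hu,
            smul_smul, Units.mul_inv, one_smul]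
      · obtain ⟨n, t, ht⟩ := QCoh.exists_pow_smul_eq_map hE hU g s
        refine ⟨n, t, ?_⟩
        refine Eq.trans ?_ ht.symm
        exact congrArg (· • s) (map_pow (AModX.resR (X.basicOpen_le g)) g n)
      · exact QCoh.exists_pow_smul_eq_zero hE hU g x hx
    have hres : ∀ z : ⋀[Γ(X, U)]^p Γ(E, U), AModX.res L (X.basicOpen_le g) ((φ ⟨U, hU⟩).symm z) =
        (φ V).symm (extLoc Γ(X, X.basicOpen g) rE p z) := by
      intro z
      have hz : z ∈ Submodule.span Γ(X, U) (Set.range (ιMulti Γ(X, U) p (M := Γ(E, U)))) := by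
        rw [ιMulti_span]; trivial
      induction hz using Submodule.span_induction with
      | mem y hy =>
        obtain ⟨e, rfl⟩ := hy
        rw [extLoc_ιMulti]
        exact hφ ⟨U, hU⟩ V (X.basicOpen_le g) e
      | zero => simp
      | add a b _ _ ha hb => rw [map_add, map_add, ha, hb, ← map_add, ← map_add]
      | smul r a _ ha =>
        rw [map_smul, AModX.res_smul, ha, map_smul, ← IsScalarTower.algebraMap_smul Γ(X, X.basicOpen g) r
          (extLoc Γ(X, X.basicOpen g) rE p a), map_smul]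
        rfl
    refine ⟨fun y => ?_, fun t ht => ?_⟩
    · obtain ⟨⟨_, n, rfl⟩, x, hx⟩ := extLoc_surj (Submonoid.powers g) rE p (φ V y)
      refine ⟨n, (φ ⟨U, hU⟩).symm x, ?_⟩
      rw [hres, ← hx, ← IsScalarTower.algebraMap_smul Γ(X, X.basicOpen g) (g ^ n) (φ V y), map_smul,
        LinearEquiv.symm_apply_apply, map_pow]
      rfl
    · have h0 : extLoc Γ(X, X.basicOpen g) rE p (φ ⟨U, hU⟩ t) = 0 := by
        apply (φ V).symm.injective
        rw [← hres, LinearEquiv.symm_apply_apply, map_zero]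
        exact ht
      obtain ⟨⟨_, n, rfl⟩, hn⟩ := extLoc_eq_zero (Submonoid.powers g) rE p _ h0
      refine ⟨n, (φ ⟨U, hU⟩).injective ?_⟩
      refine ((φ ⟨U, hU⟩).map_smul (g ^ n) t).trans (Eq.trans ?_ (φ ⟨U, hU⟩).map_zero.symm)
      exact hn
  exact QCoh.isQCoh_of_sections (fun U hU g s => (main U hU g).1 s) (fun U hU g t ht => (main U hU g).2 t ht)

end Groth.Agent.H44Hyper
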