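import Groth.Agent.H44Hyper.Basic
import Groth.Agent.H44Hyper.QCohExt
import Groth.Prelude.Def_DeRham2

/-!
# Graded pieces of the hypercohomology of a de Rham complex
-/

set_option linter.style.haveILetI false

universe u

open CategoryTheory CategoryTheory.Limits AlgebraicGeometry TopologicalSpace Opposite

namespace Groth.Agent.H44Hyper

variable {X S : Scheme.{u}} {f : X ⟶ S} {Ω' : X.Modules} {δ : OmegaSh.Der f Ω'} (D : DeRhamSh.Cx f Ω' δ)

theorem isQCoh_term (hΩ : Coh.IsQCoh Ω') (p : ℕ) : Coh.IsQCoh (D.term p) :=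
  isQCoh_extPow p hΩ (D.loc p) (D.loc_res p)

/-- The degree-`n` term of the extended complex. -/
noncomputable def KZXIso (n : ℕ) : D.KZ.X (n : ℤ) ≅ Coh.toAb (D.term n) :=
  D.K.extendXIso ComplexShape.embeddingUpNat (ComplexShape.embeddingUpNat_f n) ≪≫ D.iso n

theorem isZero_KZ_of_neg (m : ℤ) (hm : m < 0) : IsZero (D.KZ.X m) :=
  D.K.isZero_extend_X _ _ fun j hj => by
    have h : (j : ℤ) = m := hj
    omega

theorem isZero_KZ_of_gt (N : ℕ) (hN : ∀ p, N < p → IsZero (Coh.toAb (D.term p))) (m : ℤ) (hm : (N : ℤ) < m) :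
    IsZero (D.KZ.X m) := by
  obtain ⟨p, rfl⟩ : ∃ p : ℕ, (p : ℤ) = m := ⟨m.toNat, by omega⟩
  exact (hN p (by omega)).of_iso (KZXIso D p)

variable [HasDerivedCategory.{u} (Sheaf (Opens.grothendieckTopology X) AddCommGrpCat.{u})]

/-- `H^a(X, K^n[-n]) ≃ H^m(X, Ω^n)` for `n + m = a`. -/
noncomputable def gradedEquiv (n m : ℕ) (a : ℤ) (h : (n : ℤ) + m = a) :
    E1Deg.HT (CohCx.freeSheaf (Opens.grothendieckTopology X) ⊤)
        ((HomologicalComplex.single _ (ComplexShape.up ℤ) (n : ℤ)).obj (D.KZ.X n)) a ≃+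
      Coh.HH X (D.term n) m :=
  ((E1Deg.HTsingleEquiv _ _ (n : ℤ) a m h).trans (E1Deg.extCongrRight _ (KZXIso D n) m)).trans
    (E1Deg.extCongrLeft (E1Deg.freeSheafIsoConstant (Opens.grothendieckTopology X)
      (CategoryTheory.Limits.isTerminalTop : IsTerminal (⊤ : X.Opens))) _ m)

/-- Vanishing of de Rham cohomology from vanishing of Hodge cohomology. -/
theorem subsingleton_HdR (N : ℕ) (hN : ∀ p, N < p → IsZero (Coh.toAb (D.term p))) (i : ℤ)
    (h : ∀ p q : ℕ, (p : ℤ) + q = i → p ≤ N → Subsingleton (Coh.HH X (D.term p) q)) :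
    Subsingleton (DeRhamSh.HdR D i) := by
  refine subsingleton_HT D.KZ (CohCx.freeSheaf (Opens.grothendieckTopology X) ⊤) 0 N i
    (isZero_KZ_of_neg D) (isZero_KZ_of_gt D N hN) fun p hp hpN => ?_
  obtain ⟨n, rfl⟩ : ∃ n : ℕ, (n : ℤ) = p := ⟨p.toNat, by omega⟩
  by_cases hi : i < n
  · exact subsingleton_single _ _ _ _ hi
  · obtain ⟨m, hm⟩ : ∃ m : ℕ, (n : ℤ) + m = i := ⟨(i - n).toNat, by omega⟩
    haveI := h n m hm (by omega)
    exact (gradedEquiv D n m i hm).toEquiv.subsingleton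

end Groth.Agent.H44Hyper
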