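import Groth.Agent.H44Hyper.Acyclic
import Groth.Agent.H44Hyper.DeRham
import Groth.Agent.OmegaLib.Affine
import Groth.Agent.OmegaUniv.Unram
import Groth.Agent.QCoh.CechStd
import Groth.Agent.SiteBase.Sections
import Groth.Agent.Synt29.DRGen
import Groth.Prelude.Def_DeRham

/-!
# Affine de Rham cohomology is the cohomology of the ring-level de Rham complex
-/

set_option linter.style.haveILetI false
set_option backward.isDefEq.respectTransparency false

universe u

open CategoryTheory CategoryTheory.Limits AlgebraicGeometry TopologicalSpace Opposite exteriorPower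

namespace Groth.Agent.H44Hyper

variable (R A : Type u) [CommRing R] [CommRing A] [Algebra R A]
  (D : DeRhamSh.OmegaCx (Spec.map (CommRingCat.ofHom (algebraMap R A))))

/-- The affine open `⊤` of `Spec A`. -/
noncomputable abbrev topAff : (Spec (CommRingCat.of A)).affineOpens := ⟨⊤, isAffineOpen_top _⟩

/-- Global forms. -/
theorem exists_extΓ (p : ℕ) : ∃ e : ↥(⋀[A]^p (Ω[A⁄R])) ≃+ Γ(D.term p, ⊤), ∀ (b₀ : A) (b : Fin p → A),
    e (DeRham.gen (KaehlerDifferential.D R A) p b₀ b) =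
      (D.loc p (topAff A)).symm (OmAff.toΓ A b₀ • ιMulti _ p fun i =>
        (OmegaSh.dOmega (Spec.map (CommRingCat.ofHom (algebraMap R A)))).app ⊤ (OmAff.toΓ A (b i))) := by
  let B := Γ(Spec (CommRingCat.of A), ⊤)
  let ρ : A →+* B := OmAff.toΓ A
  have hρ : Function.Bijective ρ := ConcreteCategory.bijective_of_isIso (Scheme.ΓSpecIso (CommRingCat.of A)).inv
  letI : Algebra A B := ρ.toAlgebra
  haveI : IsLocalization (⊥ : Submonoid A) B :=
    (isLocalization_iff _ _).2 ⟨fun y => by rw [show (y : A) = 1 from Submonoid.mem_bot.1 y.2, map_one]; exact isUnit_one,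
      fun z => by
        obtain ⟨a, rfl⟩ := hρ.2 z
        exact ⟨(a, 1), by rw [OneMemClass.coe_one, map_one, mul_one]; rfl⟩,
      fun {x y} h => ⟨1, by rw [hρ.1 h]⟩⟩
  letI : Module A Γ(Omega.sheaf (Spec.map (CommRingCat.ofHom (algebraMap R A))), ⊤) := OmAff.modB A _
  haveI : IsScalarTower A B Γ(Omega.sheaf (Spec.map (CommRingCat.ofHom (algebraMap R A))), ⊤) :=
    ⟨fun a b x => mul_smul (ρ a) b x⟩
  let g : Ω[A⁄R] →ₗ[A] Γ(Omega.sheaf (Spec.map (CommRingCat.ofHom (algebraMap R A))), ⊤) :=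
    { toFun := OmAff.toSpec R A
      map_add' := map_add _
      map_smul' := fun a x => (OmAff.toSpec R A).map_smulₛₗ a x }
  have hg : Function.Bijective g := OmegaLib.toSpec_bijective R A
  haveI : IsLocalizedModule (⊥ : Submonoid A) g :=
    { map_units := fun y => by rw [show (y : A) = 1 from Submonoid.mem_bot.1 y.2, map_one]; exact isUnit_one
      surj := fun y => by
        obtain ⟨x, rfl⟩ := hg.2 y
        exact ⟨(x, 1), one_smul _ _⟩
      exists_of_eq := fun h => ⟨1, by rw [hg.1 h]⟩ }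
  let φ : ↥(⋀[A]^p (Ω[A⁄R])) →+ Γ(D.term p, ⊤) :=
    (D.loc p (topAff A)).symm.toAddEquiv.toAddMonoidHom.comp (extLoc B g p).toAddMonoidHom
  have hbij : Function.Bijective φ := by
    refine (D.loc p (topAff A)).symm.bijective.comp ⟨(injective_iff_map_eq_zero _).2 fun x hx => ?_, fun y => ?_⟩
    · obtain ⟨s, hs⟩ := extLoc_eq_zero (⊥ : Submonoid A) g p x hx
      rwa [show (s : A) = 1 from Submonoid.mem_bot.1 s.2, one_smul] at hs
    · obtain ⟨s, x, hx⟩ := extLoc_surj (⊥ : Submonoid A) g p y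
      rw [show (s : A) = 1 from Submonoid.mem_bot.1 s.2, one_smul] at hx
      exact ⟨x, hx.symm⟩
  refine ⟨AddEquiv.ofBijective φ hbij, fun b₀ b => ?_⟩
  refine congrArg (D.loc p (topAff A)).symm ?_
  show extLoc B g p (DeRham.gen (KaehlerDifferential.D R A) p b₀ b) = _
  rw [DeRham.gen, map_smul, extLoc_ιMulti, ← IsScalarTower.algebraMap_smul B b₀]
  congr 2
  funext i
  exact OmAff.toSpec_D R A (b i)

/-- A chosen identification of global forms. -/
noncomputable def extΓ (p : ℕ) : ↥(⋀[A]^p (Ω[A⁄R])) ≃+ Γ(D.term p, ⊤) := (exists_extΓ R A D p).choose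

theorem extΓ_gen (p : ℕ) (b₀ : A) (b : Fin p → A) :
    extΓ R A D p (DeRham.gen (KaehlerDifferential.D R A) p b₀ b) =
      (D.loc p (topAff A)).symm (OmAff.toΓ A b₀ • ιMulti _ p fun i =>
        (OmegaSh.dOmega (Spec.map (CommRingCat.ofHom (algebraMap R A)))).app ⊤ (OmAff.toΓ A (b i))) :=
  (exists_extΓ R A D p).choose_spec b₀ b

variable {R A} {d : ∀ p : ℕ, ↥(⋀[A]^p (Ω[A⁄R])) →ₗ[R] ↥(⋀[A]^(p + 1) (Ω[A⁄R]))}
  (hd : DeRham.IsDiff (KaehlerDifferential.D R A) d)

include hd in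
theorem d_extΓ (p : ℕ) (z : ↥(⋀[A]^p (Ω[A⁄R]))) :
    (D.K.d p (p + 1)).hom.app (op ⊤) ((D.iso p).inv.hom.app (op ⊤) (extΓ R A D p z)) =
      (D.iso (p + 1)).inv.hom.app (op ⊤) (extΓ R A D (p + 1) (d p z)) := by
  induction z using Synt29.DRGen.gen_induction (KaehlerDifferential.D R A)
    (KaehlerDifferential.span_range_derivation R A) with
  | hzero => simp
  | hadd x y hx hy => simp only [map_add, hx, hy]
  | hgenP b₀ b =>
    rw [extΓ_gen, hd.1 p b₀ b]
    refine Eq.trans (D.rule p (topAff A) (OmAff.toΓ A b₀) (fun i => OmAff.toΓ A (b i))) ?_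
    congr 1
    rw [show ιMulti A (p + 1) (Fin.cons (KaehlerDifferential.D R A b₀) fun i => KaehlerDifferential.D R A (b i)) =
      DeRham.gen (KaehlerDifferential.D R A) (p + 1) 1 (Fin.cons b₀ b) by
        rw [DeRham.gen, one_smul]
        congr 1
        funext i
        refine Fin.cases ?_ ?_ i <;> simp, extΓ_gen, map_one, one_smul]
    congr 2
    funext i
    refine Fin.cases ?_ ?_ i <;> simp

/-- Morphisms `ℤ_X ⟶ K^p` are the `p`-forms. -/
noncomputable def secForms (p : ℕ) :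
    (CohCx.freeSheaf (Opens.grothendieckTopology (Spec (CommRingCat.of A))) ⊤ ⟶ D.KZ.X (p : ℤ)) ≃+
      ↥(⋀[A]^p (Ω[A⁄R])) :=
  ((SiteBase.secEquiv _ ⊤ _).trans
    (((sheafToPresheaf _ _).mapIso (KZXIso D p)).app (op ⊤)).addCommGroupIsoToAddEquiv).trans
    (extΓ R A D p).symm

include hd in
theorem secForms_d (p : ℕ)
    (z : CohCx.freeSheaf (Opens.grothendieckTopology (Spec (CommRingCat.of A))) ⊤ ⟶ D.KZ.X (p : ℤ)) :
    secForms D (p + 1) (z ≫ D.KZ.d (p : ℤ) ((p + 1 : ℕ) : ℤ)) = d p (secForms D p z) := by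
  apply (extΓ R A D (p + 1)).injective
  set w := secForms D p z with hw
  refine ((extΓ R A D (p + 1)).apply_symm_apply _).trans ?_
  apply ((((sheafToPresheaf _ _).mapIso (D.iso (p + 1))).app (op ⊤)).addCommGroupIsoToAddEquiv).symm.injective
  refine Eq.trans ?_ (d_extΓ D hd p w)
  have hw' : extΓ R A D p w = (KZXIso D p).hom.hom.app (op ⊤) (SiteBase.secEquiv _ ⊤ _ z) :=
    (extΓ R A D p).apply_symm_apply _
  rw [hw', show ∀ (e₁ : _ ≃+ _) (e₂ : _ ≃+ _), (e₁.trans e₂).toEquiv (z ≫ D.KZ.d (p : ℤ) ((p + 1 : ℕ) : ℤ)) =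
      e₂ (e₁ (z ≫ D.KZ.d (p : ℤ) ((p + 1 : ℕ) : ℤ))) from fun _ _ => rfl, SiteBase.secEquiv_comp, D.K.extend_d_eq ComplexShape.embeddingUpNat
    (ComplexShape.embeddingUpNat_f p) (ComplexShape.embeddingUpNat_f (p + 1))]
  simp [KZXIso, ← ConcreteCategory.comp_apply, ← NatTrans.comp_app]

end Groth.Agent.H44Hyper

namespace Groth.Agent.H44Hyper

variable {R A : Type u} [CommRing R] [CommRing A] [Algebra R A]
  (D : DeRhamSh.OmegaCx (Spec.map (CommRingCat.ofHom (algebraMap R A))))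
  [HasDerivedCategory.{u} (Sheaf (Opens.grothendieckTopology ↥(Spec (CommRingCat.of A))) AddCommGrpCat.{u})]
  {d : ∀ p : ℕ, ↥(⋀[A]^p (Ω[A⁄R])) →ₗ[R] ↥(⋀[A]^(p + 1) (Ω[A⁄R]))}
  (hd : DeRham.IsDiff (KaehlerDifferential.D R A) d)

set_option quotPrecheck false in
local notation "TT" => CohCx.freeSheaf (Opens.grothendieckTopology ↥(Spec (CommRingCat.of A))) ⊤

omit [HasDerivedCategory.{u} (Sheaf (Opens.grothendieckTopology ↥(Spec (CommRingCat.of A))) AddCommGrpCat.{u})] in
theorem subsingleton_ext_KZ (m : ℤ) (i : ℕ) :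
    Subsingleton (Abelian.Ext.{u} TT (D.KZ.X m) (i + 1)) := by
  by_cases hm : m < 0
  · refine subsingleton_of_forall_eq 0 fun x => ?_
    rw [← Abelian.Ext.comp_mk₀_id x, (isZero_KZ_of_neg D m hm).eq_of_src (𝟙 _) 0, Abelian.Ext.mk₀_zero,
      Abelian.Ext.comp_zero]
  · obtain ⟨p, rfl⟩ : ∃ p : ℕ, (p : ℤ) = m := ⟨m.toNat, by omega⟩
    haveI : Subsingleton (Coh.HH (Spec (CommRingCat.of A)) (D.term p) (i + 1)) :=
      QCoh.subsingleton_HH_of_isAffine (isQCoh_term D (OmegaUniv.isQCoh_omega _) p) i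
    exact ((E1Deg.extCongrRight _ (KZXIso D p) (i + 1)).trans
      (E1Deg.extCongrLeft (E1Deg.freeSheafIsoConstant (Opens.grothendieckTopology _)
        (CategoryTheory.Limits.isTerminalTop : IsTerminal (⊤ : (Spec (CommRingCat.of A)).Opens))) _ _)).toEquiv.subsingleton

/-- Affine de Rham cohomology. -/
theorem nonempty_HdR_addEquiv (n : ℕ) : Nonempty (DeRhamSh.HdR D (n : ℤ) ≃+ ↑(DeRham.H hd n)) := by
  haveI : D.KZ.IsStrictlyGE 0 := by
    rw [CochainComplex.isStrictlyGE_iff]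
    exact fun i hi => isZero_KZ_of_neg D i hi
  obtain ⟨hsurj, -⟩ := cls_surjective_and_kernel TT (subsingleton_ext_KZ D) 0 ((n : ℤ) - 1) n (by omega)
  have hker := fun z => ((cls_surjective_and_kernel TT (subsingleton_ext_KZ D) 0 ((n : ℤ) - 1) n (by omega)).2 z)
  let S := (DeRham.cx hd).sc n
  let next : ℕ := (ComplexShape.up ℕ).next n
  have hg : ∀ x : S.X₂, S.g.hom x = 0 ↔ d n x = 0 := fun x => by
    show ((DeRham.cx hd).d n next).hom x = 0 ↔ _
    have hn : next = n + 1 := by simp [next]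
    rw [hn]
    exact Iff.of_eq (congrArg (fun t => t = 0) (by simp [DeRham.cx]))
  -- cocycles as morphisms
  have hcyc : ∀ x : LinearMap.ker S.g.hom, (secForms D n).symm x.1 ∈ cyc TT D.KZ n := fun x => by
    rw [mem_cyc]
    refine (secForms D (n + 1)).injective ?_
    rw [map_zero]
    refine ((secForms_d D hd n _).trans ?_)
    rw [AddEquiv.apply_symm_apply]
    exact (hg x.1).1 x.2
  let ψ : LinearMap.ker S.g.hom →+ DeRhamSh.HdR D (n : ℤ) :=
    (cls TT D.KZ n).comp (AddMonoidHom.mk' (fun x => ⟨(secForms D n).symm x.1, hcyc x⟩)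
      fun a b => Subtype.ext (map_add (secForms D n).symm a.1 b.1))
  have hψ : Function.Surjective ψ := fun y => by
    obtain ⟨z, rfl⟩ := hsurj y
    refine ⟨⟨secForms D n z.1, (hg _).2 ?_⟩, congrArg (cls TT D.KZ n) (Subtype.ext ((secForms D n).symm_apply_apply _))⟩
    rw [← secForms_d D hd n z.1]
    exact (congrArg (secForms D (n + 1)) ((mem_cyc TT).1 z.2)).trans (map_zero _)
  have hkerψ : ∀ x, ψ x = 0 ↔ x ∈ LinearMap.range S.moduleCatToCycles := by
    intro x
    refine (hker _).trans ?_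
    show (∃ w, w ≫ D.KZ.d _ _ = (secForms D n).symm x.1) ↔ _
    constructor
    · rintro ⟨w, hw⟩
      rcases Nat.eq_zero_or_pos n with rfl | hn
      · refine ⟨0, Subtype.ext ?_⟩
        rw [map_zero]
        apply (secForms D 0).symm.injective
        rw [← hw, (isZero_KZ_of_neg D _ (by simp)).eq_of_tgt w 0]
        exact (map_zero _).trans Limits.zero_comp.symm
      · obtain ⟨m, rfl⟩ : ∃ m, n = m + 1 := ⟨n - 1, by omega⟩
        have key : ∀ (a : ℤ) (w : TT ⟶ D.KZ.X a), a = (m : ℤ) → w ≫ D.KZ.d a ((m + 1 : ℕ) : ℤ) = (secForms D (m + 1)).symm x.1 →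
            x ∈ LinearMap.range S.moduleCatToCycles := by
          rintro _ w rfl hw
          have h := congrArg (secForms D (m + 1)) hw
          rw [secForms_d D hd, AddEquiv.apply_symm_apply] at h
          have : ∀ (j : ℕ) (_ : j = m), ∃ y : (DeRham.cx hd).X j, ((DeRham.cx hd).d j (m + 1)).hom y = x.1 := by
            rintro j rfl
            exact ⟨secForms D j w, by simp [DeRham.cx]; exact h⟩
          obtain ⟨y, hy⟩ := this _ (CochainComplex.prev_nat_succ m)
          exact ⟨y, Subtype.ext hy⟩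
        exact key _ w (by push_cast; ring) hw
    · rintro ⟨y, rfl⟩
      rcases Nat.eq_zero_or_pos n with rfl | hn
      · refine ⟨0, ?_⟩
        rw [Limits.zero_comp]
        symm
        refine (congrArg (secForms D 0).symm ?_).trans (map_zero _)
        show ((DeRham.cx hd).d _ 0).hom y = 0
        rw [HomologicalComplex.shape _ _ _ (by simp)]
        rfl
      · obtain ⟨m, rfl⟩ : ∃ m, n = m + 1 := ⟨n - 1, by omega⟩
        have : ∀ (j : ℕ) (y' : (DeRham.cx hd).X j), j = m → ∃ w : TT ⟶ D.KZ.X (m : ℤ),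
            w ≫ D.KZ.d (m : ℤ) ((m + 1 : ℕ) : ℤ) = (secForms D (m + 1)).symm (((DeRham.cx hd).d j (m + 1)).hom y') := by
          rintro j y' rfl
          refine ⟨(secForms D j).symm (show ↥(⋀[A]^j (Ω[A⁄R])) from y'), (secForms D (j + 1)).injective ?_⟩
          rw [secForms_d D hd, AddEquiv.apply_symm_apply, AddEquiv.apply_symm_apply]
          simp [DeRham.cx]
        obtain ⟨w, hw⟩ := this _ y (CochainComplex.prev_nat_succ m)
        have h : ((m + 1 : ℕ) : ℤ) - 1 = (m : ℤ) := by push_cast; ring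
        rw [h]
        exact ⟨w, hw⟩
  refine ⟨((QuotientAddGroup.quotientKerEquivOfSurjective ψ hψ).symm.trans
    (QuotientAddGroup.quotientAddEquivOfEq (N := (LinearMap.range S.moduleCatToCycles).toAddSubgroup) ?_)).trans
    S.moduleCatHomologyIso.toLinearEquiv.symm.toAddEquiv⟩
  ext x
  exact hkerψ x

end Groth.Agent.H44Hyper
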