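import Groth.Agent.H44Hyper.AffineDR
import Groth.Agent.H44Hyper.PolyPoincare

/-!
# de Rham cohomology of affine space
-/

set_option linter.style.haveILetI false
set_option backward.isDefEq.respectTransparency false

universe u

open CategoryTheory CategoryTheory.Limits AlgebraicGeometry TopologicalSpace Opposite exteriorPower

namespace Groth.Agent.H44Hyper

theorem subsingleton_HdR_of_neg {X S : Scheme.{u}} {f : X ⟶ S} {Ω' : X.Modules} {δ : OmegaSh.Der f Ω'}
    (D : DeRhamSh.Cx f Ω' δ) [HasDerivedCategory.{u} (Sheaf (Opens.grothendieckTopology X) AddCommGrpCat.{u})]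
    (i : ℤ) (hi : i < 0) : Subsingleton (DeRhamSh.HdR D i) := by
  let K := D.KZ
  haveI : CochainComplex.IsStrictlyGE K 0 := by
    rw [CochainComplex.isStrictlyGE_iff]
    exact fun m hm => isZero_KZ_of_neg D m hm
  refine subsingleton_of_forall_eq 0 fun φ => ?_
  let T := (DerivedCategory.singleFunctor (Sheaf (Opens.grothendieckTopology X) AddCommGrpCat.{u}) 0).obj
    (CohCx.freeSheaf (Opens.grothendieckTopology X) ⊤)
  haveI : DerivedCategory.TStructure.t.IsLE T 0 := inferInstanceAs (T.IsLE 0)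
  haveI : DerivedCategory.TStructure.t.IsGE (DerivedCategory.Q.obj K) 0 :=
    inferInstanceAs ((DerivedCategory.Q.obj K).IsGE 0)
  haveI := DerivedCategory.TStructure.t.isGE_shift (DerivedCategory.Q.obj K) 0 i (-i)
  exact DerivedCategory.TStructure.t.zero φ 0 (-i)

variable {R A : Type u} [CommRing R] [CommRing A] [Algebra R A]
  {d : ∀ p : ℕ, ↥(⋀[A]^p (Ω[A⁄R])) →ₗ[R] ↥(⋀[A]^(p + 1) (Ω[A⁄R]))}
  (hd : DeRham.IsDiff (KaehlerDifferential.D R A) d)

theorem sc_g_apply (n : ℕ) (x : ↥(⋀[A]^n (Ω[A⁄R]))) : ((DeRham.cx hd).sc n).g.hom x = 0 ↔ d n x = 0 := by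
  let next : ℕ := (ComplexShape.up ℕ).next n
  show ((DeRham.cx hd).d n next).hom x = 0 ↔ _
  have hn : next = n + 1 := by simp [next]
  rw [hn]
  exact Iff.of_eq (congrArg (fun t => t = 0) (by simp [DeRham.cx]))

/-- The cohomology of the ring-level complex from its cocycles. -/
theorem subsingleton_H_of_poincare (h : Poincare d) (n : ℕ) : Subsingleton ↑(DeRham.H hd (n + 1)) := by
  let S := (DeRham.cx hd).sc (n + 1)
  have key : ∀ x : LinearMap.ker S.g.hom, x ∈ LinearMap.range S.moduleCatToCycles := by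
    intro x
    obtain ⟨z, hz⟩ := h.1 n x.1 ((sc_g_apply hd (n + 1) x.1).1 x.2)
    have : ∀ (j : ℕ) (_ : j = n), ∃ y : (DeRham.cx hd).X j, ((DeRham.cx hd).d j (n + 1)).hom y = x.1 := by
      rintro j rfl
      exact ⟨z, by simp [DeRham.cx]; exact hz⟩
    obtain ⟨y, hy⟩ := this _ (CochainComplex.prev_nat_succ n)
    exact ⟨y, Subtype.ext hy⟩
  haveI : Subsingleton (LinearMap.ker S.g.hom ⧸ LinearMap.range S.moduleCatToCycles) :=
    Submodule.Quotient.subsingleton_iff.2 (top_unique fun x _ => key x)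
  exact S.moduleCatHomologyIso.toLinearEquiv.toEquiv.subsingleton (β := LinearMap.ker S.g.hom ⧸ LinearMap.range S.moduleCatToCycles)

/-- `H^0` is the ring of constants. -/
theorem nonempty_H_zero (h : Poincare d) (hinj : Function.Injective (algebraMap R A)) :
    Nonempty (↑(DeRham.H hd 0) ≃+ R) := by
  let S := (DeRham.cx hd).sc 0
  have hc : ∀ r : R, DeRham.gen (KaehlerDifferential.D R A) 0 (algebraMap R A r) ![] ∈ LinearMap.ker S.g.hom := by
    intro r
    refine LinearMap.mem_ker.2 ((sc_g_apply hd 0 _).2 ?_)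
    rw [hd.1 0]
    exact AlternatingMap.map_coord_zero _ (i := 0) (by simp)
  have hb : LinearMap.range S.moduleCatToCycles = ⊥ := by
    refine LinearMap.range_eq_bot.2 (LinearMap.ext fun y => Subtype.ext ?_)
    show ((DeRham.cx hd).d _ 0).hom y = 0
    rw [HomologicalComplex.shape _ _ _ (by simp)]
    rfl
  let e : R →+ LinearMap.ker S.g.hom := AddMonoidHom.mk' (fun r => ⟨_, hc r⟩)
    (fun r s => Subtype.ext (show DeRham.gen (KaehlerDifferential.D R A) 0 (algebraMap R A (r + s)) ![] =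
      DeRham.gen (KaehlerDifferential.D R A) 0 (algebraMap R A r) ![] +
        DeRham.gen (KaehlerDifferential.D R A) 0 (algebraMap R A s) ![] by
      rw [DeRham.gen, map_add, add_smul]; rfl))
  have he : Function.Bijective e := by
    refine ⟨fun r s hrs => hinj ?_, fun x => ?_⟩
    · have := congrArg (fun z : LinearMap.ker S.g.hom => zeroEquiv A (Ω[A⁄R]) z.1) hrs
      simpa only [e, AddMonoidHom.mk'_apply, DeRham.gen, map_smul, zeroEquiv_ιMulti, smul_eq_mul, mul_one] using this
    · obtain ⟨r, hr⟩ := h.2 x.1 ((sc_g_apply hd 0 x.1).1 x.2)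
      exact ⟨r, Subtype.ext hr.symm⟩
  exact ⟨(S.moduleCatHomologyIso.toLinearEquiv.trans (Submodule.quotEquivOfEqBot _ hb)).toAddEquiv.trans
    (AddEquiv.ofBijective e he).symm⟩

end Groth.Agent.H44Hyper
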