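import Groth.Prelude.Def_E1Deg
import Groth.Prelude.Def_E1Deg2
import Mathlib.Algebra.Homology.DerivedCategory.TStructure
import Mathlib.Algebra.Homology.HomologicalComplexAbelian
import Mathlib.CategoryTheory.Triangulated.Yoneda

/-!
# The stupid filtration and `Hom(T, -)` in a derived category

* `sigmaSES`: `0 → σ_{≥ i+1} K → σ_{≥ i} K → K^i[-i] → 0` is short exact;
* `exact_mid`, `exact_left`, `exact_right`: the long exact sequence for `E1Deg.HT T`;
* `subsingleton_single`: vanishing in negative degrees;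
* `prop_of_graded`: devissage along the stupid filtration of a bounded complex;
* `subsingleton_HT`: vanishing from the graded pieces.
-/

set_option linter.style.haveILetI false

universe w v u

open CategoryTheory CategoryTheory.Limits CategoryTheory.Pretriangulated Opposite

namespace Groth.Agent.H44Hyper

variable {A : Type u} [Category.{v} A] [Abelian A]

variable (K : CochainComplex A ℤ) (i : ℤ)

lemma sigmaGEιSucc_comp_π : E1Deg.sigmaGEιSucc K i ≫ E1Deg.sigmaGEπ K i = 0 := by
  refine HomologicalComplex.hom_ext _ _ fun m => ?_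
  by_cases h : m = i
  · subst h
    refine (K.isZero_stupidTrunc_X (E1Deg.emb (m + 1)) m fun n hn => ?_).eq_of_src _ _
    simp only [ComplexShape.embeddingUpIntGE_f] at hn
    omega
  · exact (HomologicalComplex.isZero_single_obj_X (ComplexShape.up ℤ) i (K.X i) m h).eq_of_tgt _ _

/-- `σ_{≥ i+1} K ⟶ σ_{≥ i} K ⟶ K^i[-i]`. -/
noncomputable def sigmaSES : ShortComplex (CochainComplex A ℤ) :=
  ShortComplex.mk _ _ (sigmaGEιSucc_comp_π K i)

lemma isIso_sigmaGEπ_f_self : IsIso ((E1Deg.sigmaGEπ K i).f i) := by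
  rw [E1Deg.sigmaGEπ_f]
  infer_instance

lemma isIso_sigmaGEιSucc_f (m : ℤ) (hm : m ≠ i) : IsIso ((E1Deg.sigmaGEιSucc K i).f m) := by
  by_cases h : ∃ n : ℕ, (E1Deg.emb (i + 1)).f n = m
  · obtain ⟨n, hn⟩ := h
    rw [E1Deg.sigmaGEιSucc_f_eq K i hn]
    infer_instance
  · refine ⟨0, (K.isZero_stupidTrunc_X _ m (by simpa using h)).eq_of_src _ _,
      (K.isZero_stupidTrunc_X (E1Deg.emb i) m fun n hn => ?_).eq_of_src _ _⟩
    simp only [ComplexShape.embeddingUpIntGE_f] at hn
    exact h ⟨n - 1, by simp only [ComplexShape.embeddingUpIntGE_f]; omega⟩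

lemma sigmaSES_shortExact : (sigmaSES K i).ShortExact := by
  refine HomologicalComplex.shortExact_of_degreewise_shortExact _ fun m => ?_
  by_cases hm : m = i
  · subst hm
    have hX₁ : IsZero ((E1Deg.sigmaGE K (m + 1)).X m) := K.isZero_stupidTrunc_X _ m fun n hn => by
      simp only [ComplexShape.embeddingUpIntGE_f] at hn
      omega
    haveI := isIso_sigmaGEπ_f_self K m
    exact ShortComplex.Splitting.shortExact
      (S := (sigmaSES K m).map (HomologicalComplex.eval A (ComplexShape.up ℤ) m))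
      { r := 0
        s := @inv _ _ _ _ ((E1Deg.sigmaGEπ K m).f m) (isIso_sigmaGEπ_f_self K m)
        f_r := hX₁.eq_of_src _ _
        s_g := @IsIso.inv_hom_id _ _ _ _ _ (isIso_sigmaGEπ_f_self K m)
        id := (zero_comp (f := (E1Deg.sigmaGEιSucc K m).f m)).symm ▸ (zero_add _).trans (@IsIso.hom_inv_id _ _ _ _ _ (isIso_sigmaGEπ_f_self K m)) }
  · have hX₃ : IsZero (((HomologicalComplex.single A (ComplexShape.up ℤ) i).obj (K.X i)).X m) :=
      HomologicalComplex.isZero_single_obj_X _ _ _ _ hm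
    haveI := isIso_sigmaGEιSucc_f K i m hm
    exact ShortComplex.Splitting.shortExact
      (S := (sigmaSES K i).map (HomologicalComplex.eval A (ComplexShape.up ℤ) m))
      { r := @inv _ _ _ _ ((E1Deg.sigmaGEιSucc K i).f m) (isIso_sigmaGEιSucc_f K i m hm)
        s := 0
        f_r := @IsIso.hom_inv_id _ _ _ _ _ (isIso_sigmaGEιSucc_f K i m hm)
        s_g := hX₃.eq_of_src _ _
        id := (comp_zero (f := (E1Deg.sigmaGEπ K i).f m)).symm ▸ (add_zero _).trans (@IsIso.inv_hom_id _ _ _ _ _ (isIso_sigmaGEιSucc_f K i m hm)) }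

variable [HasDerivedCategory.{w} A] (T : A)

/-- The functor `Hom(T, -)` of `E1Deg.HT`. -/
noncomputable abbrev homFrom : DerivedCategory A ⥤ AddCommGrpCat.{w} :=
  preadditiveCoyoneda.obj (op ((DerivedCategory.singleFunctor A 0).obj T))

section LES

variable {S : ShortComplex (CochainComplex A ℤ)} (hS : S.ShortExact)

include hS in
theorem exact_mid (n : ℤ) (x : E1Deg.HT T S.X₂ n) (hx : E1Deg.HTmap T S.g n x = 0) :
    ∃ y, E1Deg.HTmap T S.f n y = x :=
  (ShortComplex.ab_exact_iff _).1 ((homFrom T).homologySequence_exact₂ (DerivedCategory.triangleOfSES hS)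
    (DerivedCategory.triangleOfSES_distinguished hS) n) x hx

/-- The connecting map. -/
noncomputable def δ (n₀ n₁ : ℤ) (h : n₀ + 1 = n₁) : E1Deg.HT T S.X₃ n₀ →+ E1Deg.HT T S.X₁ n₁ :=
  ((homFrom T).homologySequenceδ (DerivedCategory.triangleOfSES hS) n₀ n₁ h).hom

theorem exact_right (n₀ n₁ : ℤ) (h : n₀ + 1 = n₁) (z : E1Deg.HT T S.X₃ n₀) (hz : δ T hS n₀ n₁ h z = 0) :
    ∃ x, E1Deg.HTmap T S.g n₀ x = z :=
  (ShortComplex.ab_exact_iff _).1 ((homFrom T).homologySequence_exact₃ (DerivedCategory.triangleOfSES hS)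
    (DerivedCategory.triangleOfSES_distinguished hS) n₀ n₁ h) z hz

theorem exact_left (n₀ n₁ : ℤ) (h : n₀ + 1 = n₁) (y : E1Deg.HT T S.X₁ n₁)
    (hy : E1Deg.HTmap T S.f n₁ y = 0) : ∃ z, δ T hS n₀ n₁ h z = y :=
  (ShortComplex.ab_exact_iff _).1 ((homFrom T).homologySequence_exact₁ (DerivedCategory.triangleOfSES hS)
    (DerivedCategory.triangleOfSES_distinguished hS) n₀ n₁ h) y hy

include hS in
theorem subsingleton_mid (n : ℤ) (h₁ : Subsingleton (E1Deg.HT T S.X₁ n))
    (h₃ : Subsingleton (E1Deg.HT T S.X₃ n)) : Subsingleton (E1Deg.HT T S.X₂ n) := by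
  refine subsingleton_of_forall_eq 0 fun x => ?_
  obtain ⟨y, rfl⟩ := exact_mid T hS n x (Subsingleton.elim _ _)
  rw [Subsingleton.elim y 0, map_zero]

end LES

theorem subsingleton_of_isZero {L : CochainComplex A ℤ} (hL : IsZero L) (n : ℤ) :
    Subsingleton (E1Deg.HT T L n) :=
  ⟨fun _ _ => ((shiftFunctor (DerivedCategory A) n).map_isZero
    (DerivedCategory.Q.map_isZero hL)).eq_of_tgt _ _⟩

omit [HasDerivedCategory.{w} A] in
theorem isZero_of_forall {L : CochainComplex A ℤ} (hL : ∀ m, IsZero (L.X m)) : IsZero L := by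
  rw [IsZero.iff_id_eq_zero]
  ext m
  exact (hL m).eq_of_src _ _

/-- `Hom(T, X[-p][n]) = 0` for `n < p`. -/
theorem subsingleton_single (X : A) (p n : ℤ) (h : n < p) :
    Subsingleton (E1Deg.HT T ((HomologicalComplex.single A (ComplexShape.up ℤ) p).obj X) n) := by
  refine subsingleton_of_forall_eq 0 fun f => ?_
  haveI : DerivedCategory.TStructure.t.IsLE ((DerivedCategory.singleFunctor A 0).obj T) 0 :=
    inferInstanceAs (((DerivedCategory.singleFunctor A 0).obj T).IsLE 0)
  haveI : DerivedCategory.TStructure.t.IsGE ((DerivedCategory.singleFunctor A p).obj X) p :=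
    inferInstanceAs (((DerivedCategory.singleFunctor A p).obj X).IsGE p)
  haveI : DerivedCategory.TStructure.t.IsGE
      (DerivedCategory.Q.obj ((HomologicalComplex.single A (ComplexShape.up ℤ) p).obj X)) p :=
    DerivedCategory.TStructure.t.isGE_of_iso ((DerivedCategory.singleFunctorIsoCompQ A p).app X) p
  haveI := DerivedCategory.TStructure.t.isGE_shift
    (DerivedCategory.Q.obj ((HomologicalComplex.single A (ComplexShape.up ℤ) p).obj X)) p n (p - n)
  exact DerivedCategory.TStructure.t.zero f 0 (p - n)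

/-- Devissage along the stupid filtration of a complex supported in degrees `[lo, hi]`. -/
theorem prop_of_graded (P : CochainComplex A ℤ → Prop) (hi : ℤ)
    (hhi : ∀ m, hi < m → IsZero (K.X m))
    (h0 : ∀ L : CochainComplex A ℤ, IsZero L → P L)
    (hstep : ∀ i, i ≤ hi → P (E1Deg.sigmaGE K (i + 1)) → P (E1Deg.sigmaGE K i)) :
    ∀ i, P (E1Deg.sigmaGE K i) := by
  intro i
  obtain ⟨k, hk⟩ : ∃ k : ℕ, hi + 1 ≤ i + k := ⟨(hi + 1 - i).toNat, by omega⟩
  induction k generalizing i with
  | zero =>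
    refine h0 _ (isZero_of_forall fun m => ?_)
    by_cases h : ∃ j : ℕ, (E1Deg.emb i).f j = m
    · obtain ⟨j, hj⟩ := h
      refine (hhi m ?_).of_iso (K.stupidTruncXIso (E1Deg.emb i) hj)
      simp only [ComplexShape.embeddingUpIntGE_f] at hj
      push_cast at hk
      omega
    · exact K.isZero_stupidTrunc_X _ m (by simpa using h)
  | succ k ih =>
    by_cases hle : i ≤ hi
    · exact hstep i hle (ih (i + 1) (by push_cast at hk; omega))
    · exact ih i (by omega)

theorem subsingleton_sigmaGE (hi n : ℤ) (hhi : ∀ m, hi < m → IsZero (K.X m))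
    (h : ∀ p, Subsingleton (E1Deg.HT T ((HomologicalComplex.single A (ComplexShape.up ℤ) p).obj (K.X p)) n))
    (i : ℤ) : Subsingleton (E1Deg.HT T (E1Deg.sigmaGE K i) n) :=
  prop_of_graded K (fun L => Subsingleton (E1Deg.HT T L n)) hi hhi
    (fun _ hL => subsingleton_of_isZero T hL n)
    (fun i _ hi' => subsingleton_mid T (sigmaSES_shortExact K i) n hi' (h i)) i

/-- Vanishing of `Hom(T, K[n])` from the vanishing for the terms. -/
theorem subsingleton_HT (lo hi n : ℤ) (hlo : ∀ m, m < lo → IsZero (K.X m))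
    (hhi : ∀ m, hi < m → IsZero (K.X m))
    (h : ∀ p, lo ≤ p → p ≤ hi →
      Subsingleton (E1Deg.HT T ((HomologicalComplex.single A (ComplexShape.up ℤ) p).obj (K.X p)) n)) :
    Subsingleton (E1Deg.HT T K n) := by
  haveI := E1Deg.isIso_sigmaGEι K lo hlo
  have := subsingleton_sigmaGE K T hi n hhi (fun p => by
    by_cases hp : lo ≤ p ∧ p ≤ hi
    · exact h p hp.1 hp.2
    · refine subsingleton_of_isZero T (Functor.map_isZero _ ?_) n
      rcases not_and_or.1 hp with h' | h'
      · exact hlo p (by omega)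
      · exact hhi p (by omega)) lo
  exact (E1Deg.homCongrRight ((shiftFunctor (DerivedCategory A) n).mapIso
    (DerivedCategory.Q.mapIso (asIso (E1Deg.sigmaGEι K lo))))).toEquiv.symm.subsingleton

end Groth.Agent.H44Hyper
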