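import Mathlib.LinearAlgebra.ExteriorPower.Basis
import Mathlib.RingTheory.Localization.BaseChange

/-!
# Exterior powers commute with localisation
-/

set_option linter.style.haveILetI false

universe u

open exteriorPower
open scoped TensorProduct

namespace Groth.Agent.H44Hyper

variable {A A' : Type u} [CommRing A] [CommRing A'] [Algebra A A'] (S : Submonoid A) [IsLocalization S A']
  {M M' : Type u} [AddCommGroup M] [Module A M] [AddCommGroup M'] [Module A' M'] [Module A M']
  [IsScalarTower A A' M'] (f : M →ₗ[A] M') [IsLocalizedModule S f] (p : ℕ)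

variable (A') in
/-- The alternating map `(m_i) ↦ f m_1 ∧ … ∧ f m_p`. -/
noncomputable def extLocAlt : M [⋀^Fin p]→ₗ[A] ⋀[A']^p M' where
  toFun v := ιMulti A' p fun i => f (v i)
  map_update_add' v i x y := by
    have h : ∀ z, (fun j => f (Function.update v i z j)) = Function.update (fun j => f (v j)) i (f z) :=
      fun z => funext fun j => Function.apply_update (fun _ => f) v i z j
    simp only [h, map_add, AlternatingMap.map_update_add]
  map_update_smul' v i c x := by
    have h : ∀ z, (fun j => f (Function.update v i z j)) = Function.update (fun j => f (v j)) i (f z) :=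
      fun z => funext fun j => Function.apply_update (fun _ => f) v i z j
    simp only [h, map_smul]
    rw [← IsScalarTower.algebraMap_smul A' c (f x), AlternatingMap.map_update_smul, IsScalarTower.algebraMap_smul]
  map_eq_zero_of_eq' v i j h hij :=
    AlternatingMap.map_eq_zero_of_eq _ _ (congrArg f h) hij

variable (A') in
/-- `⋀^p M → ⋀^p M'` induced by a map to a module over an algebra. -/
noncomputable def extLoc : ⋀[A]^p M →ₗ[A] ⋀[A']^p M' :=
  alternatingMapLinearEquiv (extLocAlt A' f p)

omit [IsLocalizedModule S f] in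
theorem extLoc_ιMulti (v : Fin p → M) : extLoc A' f p (ιMulti A p v) = ιMulti A' p fun i => f (v i) :=
  alternatingMapLinearEquiv_apply_ιMulti _ _

include S in
theorem extLoc_surj (y : ⋀[A']^p M') : ∃ (s : S) (x : ⋀[A]^p M), (s : A) • y = extLoc A' f p x := by
  have hy : y ∈ Submodule.span A' (Set.range (ιMulti A' p (M := M'))) := by rw [ιMulti_span]; trivial
  induction hy using Submodule.span_induction with
  | mem z hz =>
    obtain ⟨e, rfl⟩ := hz
    choose mx hmx using fun i => IsLocalizedModule.surj S f (e i)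
    refine ⟨∏ i, (mx i).2, ιMulti A p fun i => (mx i).1, ?_⟩
    rw [extLoc_ιMulti]
    rw [show (fun i => f (mx i).1) = fun i => algebraMap A A' (mx i).2 • e i from
      funext fun i => by rw [← hmx i, IsScalarTower.algebraMap_smul]; rfl]
    change _ = (ιMulti A' p).toMultilinearMap fun i => algebraMap A A' (mx i).2 • e i
    rw [MultilinearMap.map_smul_univ, ← map_prod, IsScalarTower.algebraMap_smul, Submonoid.coe_finsetProd]
    rfl
  | zero => exact ⟨1, 0, by rw [smul_zero, map_zero]⟩
  | add a b _ _ ha hb =>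
    obtain ⟨s, x, hx⟩ := ha
    obtain ⟨t, z, hz⟩ := hb
    refine ⟨s * t, (t : A) • x + (s : A) • z, ?_⟩
    rw [map_add, map_smul, map_smul, ← hx, ← hz, smul_smul, smul_smul, smul_add, Submonoid.coe_mul, mul_comm (t : A)]
  | smul r a _ ha =>
    obtain ⟨s, x, hx⟩ := ha
    obtain ⟨⟨c, t⟩, hct⟩ := IsLocalization.surj S r
    refine ⟨t * s, c • x, ?_⟩
    rw [map_smul, ← hx, Submonoid.coe_mul, ← IsScalarTower.algebraMap_smul A' ((t : A) * s) (r • a),
      ← IsScalarTower.algebraMap_smul A' c ((s : A) • a), ← IsScalarTower.algebraMap_smul A' (s : A) a,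
      smul_smul, smul_smul, ← hct, map_mul]
    ring_nf

include S in
theorem extLoc_eq_zero (x : ⋀[A]^p M) (hx : extLoc A' f p x = 0) : ∃ s : S, (s : A) • x = 0 := by
  let T := A' ⊗[A] ExteriorAlgebra A M
  let j : ExteriorAlgebra A M →ₐ[A] T := Algebra.TensorProduct.includeRight
  have hu : ∀ s : S, IsUnit (algebraMap A (Module.End A T) s) := fun s => by
    obtain ⟨u, hu⟩ := IsLocalization.map_units A' s
    refine (Module.End.isUnit_iff _).2 (Function.bijective_iff_has_inverse.2
      ⟨fun z => (↑u⁻¹ : A') • z, fun z => ?_, fun z => ?_⟩)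
    · simp only [Module.algebraMap_end_apply]
      rw [← IsScalarTower.algebraMap_smul A' (s : A) z, ← hu, smul_smul, Units.inv_mul, one_smul]
    · simp only [Module.algebraMap_end_apply]
      rw [← IsScalarTower.algebraMap_smul A' (s : A) ((↑u⁻¹ : A') • z), ← hu, smul_smul, Units.mul_inv, one_smul]
  let g₀ : M' →ₗ[A] T := IsLocalizedModule.lift S f (j.toLinearMap ∘ₗ ExteriorAlgebra.ι A) hu
  have hg₀ : ∀ m, g₀ (f m) = j (ExteriorAlgebra.ι A m) := fun m => IsLocalizedModule.lift_apply S f _ hu m
  let g : M' →ₗ[A'] T := g₀.extendScalarsOfIsLocalization S A'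
  have hsq : ∀ w, g w * g w = 0 := fun w => by
    obtain ⟨⟨m, s⟩, hs⟩ := IsLocalizedModule.surj S f w
    have h : (s : A) • g₀ w = j (ExteriorAlgebra.ι A m) := by
      rw [← hg₀, ← map_smul]; exact congrArg g₀ hs
    apply ((Module.End.isUnit_iff _).1 (hu (s * s))).1
    simp only [Module.algebraMap_end_apply, smul_zero]
    change ((s : A) * s) • (g₀ w * g₀ w) = 0
    rw [← smul_smul, ← mul_smul_comm, ← smul_mul_assoc, h, ← map_mul, ExteriorAlgebra.ι_sq_zero, map_zero]
  let L : ExteriorAlgebra A' M' →ₐ[A'] T := ExteriorAlgebra.lift A' ⟨g, hsq⟩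
  let L₀ : ExteriorAlgebra A' M' →ₗ[A] T := L.toLinearMap.restrictScalars A
  have key : ∀ y : ⋀[A]^p M, L (extLoc A' f p y : ExteriorAlgebra A' M') = j (y : ExteriorAlgebra A M) := by
    intro y
    have hy : y ∈ Submodule.span A (Set.range (ιMulti A p (M := M))) := by rw [ιMulti_span]; trivial
    induction hy using Submodule.span_induction with
    | mem z hz =>
      obtain ⟨e, rfl⟩ := hz
      rw [extLoc_ιMulti, ιMulti_apply_coe, ιMulti_apply_coe, ExteriorAlgebra.ιMulti_apply,
        ExteriorAlgebra.ιMulti_apply, map_list_prod, map_list_prod, List.map_ofFn, List.map_ofFn]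
      congr 2
      funext i
      exact (ExteriorAlgebra.lift_ι_apply A' g hsq (f (e i))).trans (hg₀ (e i))
    | zero => simp
    | add a b _ _ ha hb => rw [map_add, Submodule.coe_add, Submodule.coe_add, map_add, map_add, ha, hb]
    | smul r a _ ha =>
      rw [map_smul, Submodule.coe_smul_of_tower, SetLike.val_smul, map_smul j, ← ha]
      exact L₀.map_smul r _
  have hj : (TensorProduct.mk A A' (ExteriorAlgebra A M) 1) (x : ExteriorAlgebra A M) =
      (TensorProduct.mk A A' (ExteriorAlgebra A M) 1) 0 := by
    rw [map_zero]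
    exact (key x).symm.trans (by rw [hx, ZeroMemClass.coe_zero, map_zero])
  obtain ⟨c, hc⟩ := IsLocalizedModule.exists_of_eq (S := S) hj
  exact ⟨c, Subtype.ext (by simpa [Submonoid.smul_def] using hc)⟩

end Groth.Agent.H44Hyper
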