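import Groth.Agent.H44Hyper.DeRham
import Groth.Agent.OmegaUniv.Unram
import Groth.Agent.QCoh.Support
import Groth.Agent.S0002
import Groth.Prelude.Def_KLinDR

/-!
# Finiteness of de Rham cohomology of proper schemes
-/

set_option linter.style.haveILetI false

universe w v u u'

open CategoryTheory CategoryTheory.Limits

namespace Groth.Agent.H44Hyper

section General

variable {A : Type u} [Category.{v} A] [Abelian A] [HasDerivedCategory.{w} A]
  {R : Type u'} [CommRing R] [IsNoetherianRing R]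

/-- The action on a step of the stupid filtration. -/
noncomputable def sigmaEnd (K : CochainComplex A ℤ) (ρ : R →+* End K) (i : ℤ) : R →+* End (E1Deg.sigmaGE K i) :=
  (KLinDR.extendEnd (K.restriction (E1Deg.emb i)) (E1Deg.emb i)).comp
    { toFun := fun a => HomologicalComplex.restrictionMap (ρ a : K ⟶ K) (E1Deg.emb i)
      map_one' := by rw [map_one]; rfl
      map_mul' := fun a b => by rw [map_mul]; rfl
      map_zero' := by rw [map_zero]; rfl
      map_add' := fun a b => by rw [map_add]; rfl }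

theorem sigmaEnd_f (K : CochainComplex A ℤ) (ρ : R →+* End K) (i : ℤ) (a : R) {m : ℤ} {n : ℕ}
    (h : (E1Deg.emb i).f n = m) :
    (sigmaEnd K ρ i a : E1Deg.sigmaGE K i ⟶ _).f m ≫ (K.stupidTruncXIso (E1Deg.emb i) h).hom =
      (K.stupidTruncXIso (E1Deg.emb i) h).hom ≫ (ρ a : K ⟶ K).f m :=
  HomologicalComplex.stupidTruncMap_stupidTruncXIso_hom (ρ a : K ⟶ K) (E1Deg.emb i) h

theorem commutes_ι (K : CochainComplex A ℤ) (ρ : R →+* End K) (i : ℤ) :
    KLinDR.Commutes (sigmaEnd K ρ i) ρ (E1Deg.sigmaGEι K i) := fun a => by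
  refine HomologicalComplex.hom_ext _ _ fun m => ?_
  by_cases h : ∃ n : ℕ, (E1Deg.emb i).f n = m
  · obtain ⟨n, hn⟩ := h
    rw [HomologicalComplex.comp_f, HomologicalComplex.comp_f, E1Deg.sigmaGEι_f_eq K i hn]
    exact sigmaEnd_f K ρ i a hn
  · exact (K.isZero_stupidTrunc_X (E1Deg.emb i) m (by simpa using h)).eq_of_src _ _

theorem commutes_ιSucc (K : CochainComplex A ℤ) (ρ : R →+* End K) (i : ℤ) :
    KLinDR.Commutes (sigmaEnd K ρ (i + 1)) (sigmaEnd K ρ i) (E1Deg.sigmaGEιSucc K i) := fun a => by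
  refine HomologicalComplex.hom_ext _ _ fun m => ?_
  by_cases h : ∃ n : ℕ, (E1Deg.emb (i + 1)).f n = m
  · obtain ⟨n, hn⟩ := h
    rw [HomologicalComplex.comp_f, HomologicalComplex.comp_f, E1Deg.sigmaGEιSucc_f_eq K i hn,
      ← cancel_mono (K.stupidTruncXIso (E1Deg.emb i) (E1Deg.emb_f_succ i hn)).hom]
    simp only [Category.assoc, Iso.inv_hom_id, Category.comp_id,
      sigmaEnd_f K ρ (i + 1) a hn, sigmaEnd_f K ρ i a (E1Deg.emb_f_succ i hn), Iso.inv_hom_id_assoc]
  · exact (K.isZero_stupidTrunc_X (E1Deg.emb (i + 1)) m (by simpa using h)).eq_of_src _ _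

/-- An action placed in degree `p`. -/
noncomputable def singleEnd {X : A} (σ : R →+* End X) (p : ℤ) :
    R →+* End ((HomologicalComplex.single A (ComplexShape.up ℤ) p).obj X) :=
  ({ toFun := fun f => (HomologicalComplex.single A (ComplexShape.up ℤ) p).map f
     map_one' := (HomologicalComplex.single A (ComplexShape.up ℤ) p).map_id X
     map_mul' := fun f g => (HomologicalComplex.single A (ComplexShape.up ℤ) p).map_comp g f
     map_zero' := (HomologicalComplex.single A (ComplexShape.up ℤ) p).map_zero X X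
     map_add' := fun _ _ => (HomologicalComplex.single A (ComplexShape.up ℤ) p).map_add } :
    End X →+* End ((HomologicalComplex.single A (ComplexShape.up ℤ) p).obj X)).comp σ

/-- The action on the degree-`p` term. -/
noncomputable def termEnd (K : CochainComplex A ℤ) (ρ : R →+* End K) (p : ℤ) : R →+* End (K.X p) :=
  ({ toFun := fun f => f.f p
     map_one' := rfl
     map_mul' := fun _ _ => rfl
     map_zero' := rfl
     map_add' := fun _ _ => rfl } : End K →+* End (K.X p)).comp ρ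

theorem commutes_π (K : CochainComplex A ℤ) (ρ : R →+* End K) (i : ℤ) :
    KLinDR.Commutes (sigmaEnd K ρ i) (singleEnd (termEnd K ρ i) i) (E1Deg.sigmaGEπ K i) := fun a => by
  refine HomologicalComplex.to_single_hom_ext ?_
  rw [HomologicalComplex.comp_f, HomologicalComplex.comp_f, E1Deg.sigmaGEπ_f, Category.assoc, ← Category.assoc
    ((sigmaEnd K ρ i a : E1Deg.sigmaGE K i ⟶ _).f i), sigmaEnd_f K ρ i a (E1Deg.emb_f_zero i), Category.assoc]
  congr 1
  show _ = _ ≫ ((HomologicalComplex.single A (ComplexShape.up ℤ) i).map ((ρ a : K ⟶ K).f i)).f i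
  rw [HomologicalComplex.single_map_f_self, Iso.inv_hom_id_assoc]

variable (T : A) (K : CochainComplex A ℤ) (ρ : R →+* End K) (n : ℤ)

theorem finite_sigmaGE_of_gt (i : ℤ) (hi : n < i) : Module.Finite R (KLinDR.HTρ T (E1Deg.sigmaGE K i) (sigmaEnd K ρ i) n) := by
  haveI : Subsingleton (KLinDR.HTρ T (E1Deg.sigmaGE K i) (sigmaEnd K ρ i) n) := by
    show Subsingleton (E1Deg.HT T (E1Deg.sigmaGE K i) n)
    haveI : CochainComplex.IsStrictlyGE (E1Deg.sigmaGE K i) i := by
      rw [CochainComplex.isStrictlyGE_iff]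
      refine fun m hm => K.isZero_stupidTrunc_X _ m fun j hj => ?_
      simp only [ComplexShape.embeddingUpIntGE_f] at hj
      omega
    refine subsingleton_of_forall_eq 0 fun f => ?_
    haveI : DerivedCategory.TStructure.t.IsLE ((DerivedCategory.singleFunctor A 0).obj T) 0 :=
      inferInstanceAs (((DerivedCategory.singleFunctor A 0).obj T).IsLE 0)
    haveI : DerivedCategory.TStructure.t.IsGE (DerivedCategory.Q.obj (E1Deg.sigmaGE K i)) i :=
      inferInstanceAs ((DerivedCategory.Q.obj (E1Deg.sigmaGE K i)).IsGE i)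
    haveI := DerivedCategory.TStructure.t.isGE_shift (DerivedCategory.Q.obj (E1Deg.sigmaGE K i)) i n (i - n)
    exact DerivedCategory.TStructure.t.zero f 0 (i - n)
  infer_instance

/-- Finiteness from the graded pieces. -/
theorem finite_HTρ (lo : ℤ) (hlo : ∀ m, m < lo → IsZero (K.X m))
    (h : ∀ p, lo ≤ p → p ≤ n → Module.Finite R
      (KLinDR.HTρ T ((HomologicalComplex.single A (ComplexShape.up ℤ) p).obj (K.X p)) (singleEnd (termEnd K ρ p) p) n)) :
    Module.Finite R (KLinDR.HTρ T K ρ n) := by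
  have key : ∀ (k : ℕ) (i : ℤ), lo ≤ i → n < i + k →
      Module.Finite R (KLinDR.HTρ T (E1Deg.sigmaGE K i) (sigmaEnd K ρ i) n) := by
    intro k
    induction k with
    | zero => exact fun i _ hi => finite_sigmaGE_of_gt T K ρ n i (by simpa using hi)
    | succ k ih =>
      intro i hlo' hi
      by_cases hin : n < i
      · exact finite_sigmaGE_of_gt T K ρ n i hin
      haveI := ih (i + 1) (by omega) (by push_cast at hi; omega)
      haveI := h i hlo' (by omega)
      let g := KLinDR.HTρmap T (E1Deg.sigmaGEπ K i) (commutes_π K ρ i) n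
      let f := KLinDR.HTρmap T (E1Deg.sigmaGEιSucc K i) (commutes_ιSucc K ρ i) n
      haveI : IsNoetherian R (KLinDR.HTρ T ((HomologicalComplex.single A (ComplexShape.up ℤ) i).obj (K.X i))
        (singleEnd (termEnd K ρ i) i) n) := isNoetherian_of_isNoetherianRing_of_finite _ _
      refine ⟨Submodule.fg_of_fg_map_of_fg_inf_ker g (IsNoetherian.noetherian _) ?_⟩
      have he : LinearMap.ker g = LinearMap.range f := by
        refine le_antisymm (fun x hx => ?_) ?_
        · obtain ⟨y, hy⟩ := exact_mid T (sigmaSES_shortExact K i) n (KLinDR.HTρ.toHT x) hx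
          exact ⟨KLinDR.HTρ.toHT.symm y, hy⟩
        · rintro _ ⟨y, rfl⟩
          show E1Deg.HTmap T (E1Deg.sigmaGEπ K i) n (E1Deg.HTmap T (E1Deg.sigmaGEιSucc K i) n (KLinDR.HTρ.toHT y)) = 0
          rw [← E1Deg.HTmap_comp, sigmaGEιSucc_comp_π, E1Deg.HTmap_apply, Functor.map_zero, Functor.map_zero, comp_zero]
      rw [top_inf_eq, he]
      exact Module.Finite.iff_fg.1 inferInstance
  haveI := key ((n + 1 - lo).toNat) lo le_rfl (by omega)
  haveI := E1Deg.isIso_sigmaGEι K lo hlo
  refine Module.Finite.of_surjective (KLinDR.HTρmap T (E1Deg.sigmaGEι K lo) (commutes_ι K ρ lo) n) fun y => ?_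
  refine ⟨KLinDR.HTρ.toHT.symm (E1Deg.HTmap T (inv (E1Deg.sigmaGEι K lo)) n (KLinDR.HTρ.toHT y)), ?_⟩
  show E1Deg.HTmap T (E1Deg.sigmaGEι K lo) n (E1Deg.HTmap T (inv (E1Deg.sigmaGEι K lo)) n (KLinDR.HTρ.toHT y)) = _
  rw [← E1Deg.HTmap_comp, IsIso.inv_hom_id, E1Deg.HTmap_id]
  rfl

/-- Naturality of `E1Deg.HTsingleEquiv`. -/
theorem HTsingleEquiv_naturality [HasExt.{v} A] {X Y : A} (g : X ⟶ Y) (i a : ℤ) (m : ℕ) (h : i + m = a)
    (x : E1Deg.HT T ((HomologicalComplex.single A (ComplexShape.up ℤ) i).obj X) a) :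
    E1Deg.HTsingleEquiv T Y i a m h (E1Deg.HTmap T ((HomologicalComplex.single A (ComplexShape.up ℤ) i).map g) a x) =
      (E1Deg.HTsingleEquiv T X i a m h x).comp (Abelian.Ext.mk₀ g) (add_zero m) := by
  have hn : (CategoryTheory.shiftFunctor (DerivedCategory A) a).map
      (DerivedCategory.Q.map ((HomologicalComplex.single A (ComplexShape.up ℤ) i).map g)) ≫ (E1Deg.targetIso Y i a m h).hom =
      (E1Deg.targetIso X i a m h).hom ≫
        (CategoryTheory.shiftFunctor (DerivedCategory A) (m : ℤ)).map ((DerivedCategory.singleFunctor A 0).map g) := by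
    have h1 := (DerivedCategory.singleFunctorIsoCompQ A i).inv.naturality g
    have h2 := (((DerivedCategory.singleFunctors A).shiftIso (-i) i 0 (by omega)).inv).naturality g
    simp only [E1Deg.targetIso, Iso.trans_hom, Functor.mapIso_hom, Iso.symm_hom, Iso.app_inv,
      Category.assoc, ← Functor.map_comp_assoc]
    erw [reassoc_of% h1]
    erw [h2]
    rw [← Category.assoc ((DerivedCategory.singleFunctorIsoCompQ A i).inv.app X)]
    refine (congrArg (· ≫ _) (Functor.map_comp _ _ _)).trans ((Category.assoc _ _ _).trans ?_)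
    exact congrArg (_ ≫ ·) ((shiftFunctorAdd' (DerivedCategory A) (-i) a (m : ℤ) (by omega)).inv.naturality _)
  apply Abelian.Ext.homAddEquiv.injective
  simp only [E1Deg.HTsingleEquiv, AddEquiv.trans_apply, AddEquiv.apply_symm_apply]
  show _ = ((Abelian.Ext.homAddEquiv.symm (x ≫ (E1Deg.targetIso X i a m h).hom)).comp (Abelian.Ext.mk₀ g) (add_zero m)).hom
  rw [Abelian.Ext.comp_hom, Abelian.Ext.mk₀_hom, ShiftedHom.comp_mk₀]
  show (x ≫ _) ≫ _ = Abelian.Ext.homAddEquiv (Abelian.Ext.homAddEquiv.symm _) ≫ _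
  rw [AddEquiv.apply_symm_apply, Category.assoc, Category.assoc, hn]

end General

section Schemes

open AlgebraicGeometry TopologicalSpace Opposite

variable {X S : Scheme.{u}} {f : X ⟶ S} {Ω' : X.Modules} {δ : OmegaSh.Der f Ω'} (D : DeRhamSh.Cx f Ω' δ)

theorem isCoh_term (hΩ : Coh.IsCoh Ω') (p : ℕ) : Coh.IsCoh (D.term p) := by
  refine QCoh.isCoh_iff.2 ⟨isQCoh_term D hΩ.1 p, fun U => ?_⟩
  haveI := (QCoh.isCoh_iff.1 hΩ).2 U
  exact Module.Finite.equiv (D.loc p U).symm

variable {R : Type u} [CommRing R] [IsNoetherianRing R] {c : R →+* Coh.Γtop X}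
  [HasDerivedCategory.{u} (Sheaf (Opens.grothendieckTopology X) AddCommGrpCat.{u})]

theorem finite_KLinDR_HdR (h : KLinDR.TermwiseLinear c D.K D.term D.iso) (i : ℤ)
    (hfin : ∀ p q : ℕ, letI := Module.compHom (Coh.HH X (D.term p) q) c
      Module.Finite R (Coh.HH X (D.term p) q)) :
    Module.Finite R (KLinDR.HdR c D h i) := by
  refine finite_HTρ _ D.KZ (KLinDR.scalar h) i 0 (isZero_KZ_of_neg D) fun p hp hpi => ?_
  obtain ⟨n, rfl⟩ : ∃ n : ℕ, (n : ℤ) = p := ⟨p.toNat, by omega⟩
  obtain ⟨m, hm⟩ : ∃ m : ℕ, (n : ℤ) + m = i := ⟨(i - n).toNat, by omega⟩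
  letI := Module.compHom (Coh.HH X (D.term n) m) c
  haveI := hfin n m
  let e : KLinDR.HTρ (CohCx.freeSheaf (Opens.grothendieckTopology X) ⊤)
      ((HomologicalComplex.single _ (ComplexShape.up ℤ) (n : ℤ)).obj (D.KZ.X n))
      (singleEnd (termEnd D.KZ (KLinDR.scalar h) n) n) i ≃+ Coh.HH X (D.term n) m :=
    KLinDR.HTρ.toHT.trans (gradedEquiv D n m i hm)
  have hsm : ∀ (a : R) x, e (a • x) = a • e x := by
    intro a x
    have hterm : (KLinDR.scalar h a : D.KZ ⟶ D.KZ).f (n : ℤ) ≫ (KZXIso D n).hom =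
        (KZXIso D n).hom ≫ Coh.smulAb (D.term n) (c a) := by
      rw [KLinDR.scalar_f h a n]
      simp [KZXIso, KLinDR.scalarEnd]
    show gradedEquiv D n m i hm (E1Deg.HTmap _
      ((HomologicalComplex.single _ (ComplexShape.up ℤ) (n : ℤ)).map ((KLinDR.scalar h a : D.KZ ⟶ D.KZ).f (n : ℤ))) i
        (KLinDR.HTρ.toHT x)) = Sheaf.H.map (Coh.smulAb (D.term n) (c a)) m (e x)
    show E1Deg.extCongrLeft _ _ m (E1Deg.extCongrRight _ _ m (E1Deg.HTsingleEquiv _ _ _ _ m hm _)) = _
    rw [HTsingleEquiv_naturality]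
    simp only [e, gradedEquiv, E1Deg.extCongrLeft, E1Deg.extCongrRight, AddEquiv.trans_apply,
      AddMonoidHom.toAddEquiv_apply, AddMonoidHom.flip_apply, Abelian.Ext.bilinearComp_apply_apply,
      Sheaf.H.map, Abelian.Ext.comp_assoc_of_third_deg_zero]
    simp only [Abelian.Ext.mk₀_comp_mk₀, hterm]
  exact Module.Finite.equiv ({ e with map_smul' := hsm } : _ ≃ₗ[R] _).symm

end Schemes

end Groth.Agent.H44Hyper
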